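import Mathlib
import Cfsg.Agent.H51.Crit
import Cfsg.Agent.H48.Crit

/-!
# Odd parts of Schur multipliers: reduction to a complement (helper49)

`π : L → X` a finite perfect central extension with kernel of prime order `p`.

* `exists_tau` : an element `t` with `t ^ m = 1`, `p ∤ m`, has a lift `τ` with `τ ^ m = 1`; lifts of elements commuting
  with `t` commute with `τ`; an element `a` with `t a t⁻¹ = a ^ l`, `p ∤ l - 1`, has a unique lift `α` with
  `τ α τ⁻¹ = α ^ l`.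
* `ker_le` : let `a i` be elements of order `p` with `t (a i) t⁻¹ = (a i) ^ l`, whose lifts commute, `b j` elements
  commuting with `t` and normalising `⟨a i⟩`, such that `⟨a i, b j⟩` has index prime to `p`.  Then the kernel is
  contained in the commutator subgroup of `⟨β j⟩` for all lifts `β j` of the `b j`.
* `sq_false`, `extra_false` : the kernel is not in the commutator subgroup of `⟨α, β⟩` if `π α`, `π β` commute and some
  element acts on them with determinant not 1, or if `⟨π α, π β⟩` is extraspecial and some element inverts it modulo the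
  centre.
-/

set_option autoImplicit false
set_option linter.style.haveILetI false
set_option linter.unusedVariables false

namespace Cfsg.Agent.H49.Red

open Subgroup Cfsg.Agent.H51.Mult Cfsg.Agent.H51.Crit
open scoped commutatorElement

universe u v

section basic

variable {L : Type u} {X : Type v} [Group L] [Group X] {π : L →* X}

theorem exists_inv_mod {p : ℕ} (hp : p.Prime) {m : ℤ} (hm : ¬ (p : ℤ) ∣ m) : ∃ u : ℤ, (p : ℤ) ∣ m * u - 1 := by
  have h1 : IsCoprime (p : ℤ) m := by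
    rw [Prime.coprime_iff_not_dvd (Nat.prime_iff_prime_int.1 hp)]
    exact hm
  obtain ⟨a, b, hab⟩ := h1
  exact ⟨b, ⟨-a, by linarith⟩⟩

theorem zpow_congr {k : L} {p : ℕ} (hk : k ^ p = 1) {m n : ℤ} (h : (p : ℤ) ∣ m - n) : k ^ m = k ^ n := by
  have h1 := zpow_eq_one_of_dvd hk h
  rw [zpow_sub, mul_inv_eq_one] at h1
  exact h1

theorem exists_tau (h : PCE π) {p : ℕ} (hp : p.Prime) (hc : Nat.card π.ker = p) {t : X} {m : ℕ} (ht : t ^ m = 1)
    (hm : ¬ p ∣ m) : ∃ τ : L, π τ = t ∧ τ ^ m = 1 := by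
  obtain ⟨τ, hτ⟩ := h.surj t
  have h1 : π (τ ^ m) = 1 := by rw [map_pow, hτ, ht]
  have h2 : (τ ^ m) ^ p = 1 := ker_pow h hc h1
  obtain ⟨u, hu⟩ := exists_inv_mod hp (m := (m : ℤ)) (by exact_mod_cast hm)
  refine ⟨τ * (τ ^ m) ^ (-u), ?_, ?_⟩
  · rw [map_mul, map_zpow, h1, one_zpow, mul_one, hτ]
  · have hcm : Commute τ ((τ ^ m) ^ (-u)) := (Commute.self_pow τ m).zpow_right _
    rw [hcm.mul_pow, ← zpow_natCast ((τ ^ m) ^ (-u)) m, ← zpow_mul]
    have h3 : (τ ^ m) ^ (-u * (m : ℤ)) = (τ ^ m) ^ (-1 : ℤ) := by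
      apply zpow_congr h2
      have : -u * (m : ℤ) - -1 = -((m : ℤ) * u - 1) := by ring
      rw [this]
      exact (dvd_neg).2 hu
    rw [h3, zpow_neg_one, mul_inv_cancel]

theorem comm_tau (h : PCE π) {p : ℕ} (hp : p.Prime) (hc : Nat.card π.ker = p) {τ : L} {m : ℕ} (hτ : τ ^ m = 1)
    (hm : ¬ p ∣ m) {β : L} (hb : π τ * π β = π β * π τ) : τ * β = β * τ := by
  have h1 : π ⁅τ, β⁆ = 1 := by rw [map_commutatorElement, commutatorElement_eq_one_iff_mul_comm]; exact hb
  set z := ⁅τ, β⁆ with hz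
  have hzc := h.comm h1
  have h2 : τ * β * τ⁻¹ = z * β := by rw [hz, commutatorElement_def]; group
  have h3 : ∀ n : ℕ, τ ^ n * β * (τ ^ n)⁻¹ = z ^ n * β := by
    intro n
    induction n with
    | zero => simp
    | succ n ih =>
      have e : τ ^ (n + 1) * β * (τ ^ (n + 1))⁻¹ = τ * (τ ^ n * β * (τ ^ n)⁻¹) * τ⁻¹ := by
        rw [pow_succ']; group
      have hzn : τ * z ^ n = z ^ n * τ := ((show Commute z τ from hzc τ).pow_left n).symm
      rw [e, ih]
      calc τ * (z ^ n * β) * τ⁻¹ = (τ * z ^ n) * β * τ⁻¹ := by group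
        _ = z ^ n * (τ * β * τ⁻¹) := by rw [hzn]; group
        _ = z ^ (n + 1) * β := by rw [h2, pow_succ]; group
  have h4 := h3 m
  rw [hτ, one_mul, inv_one, mul_one] at h4
  have h5 : z ^ m = 1 := (mul_eq_right.1 h4.symm)
  have h6 : z ^ p = 1 := ker_pow h hc h1
  have h7 : z = 1 := eq_one_of_zpow hp h6 (m := (m : ℤ)) (by exact_mod_cast hm) (by rw [zpow_natCast]; exact h5)
  rw [hz, commutatorElement_eq_one_iff_mul_comm] at h7
  exact h7

theorem exists_eigen (h : PCE π) {p : ℕ} (hp : p.Prime) (hc : Nat.card π.ker = p) {τ : L} {l : ℤ}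
    (hl : ¬ (p : ℤ) ∣ l - 1) {a : X} (ha : π τ * a * (π τ)⁻¹ = a ^ l) : ∃ α : L, π α = a ∧ τ * α * τ⁻¹ = α ^ l := by
  obtain ⟨α, hα⟩ := h.surj a
  obtain ⟨z, hz, hz'⟩ := exists_central h (x := τ * α * τ⁻¹) (y := α ^ l)
    (by rw [map_mul, map_mul, map_inv, map_zpow, hα, ha])
  have hzc := h.comm hz
  have hzp : z ^ p = 1 := ker_pow h hc hz
  obtain ⟨u, hu⟩ := exists_inv_mod hp hl
  have hw : π (z ^ u) = 1 := by rw [map_zpow, hz, one_zpow]
  refine ⟨α * z ^ u, by rw [map_mul, hw, mul_one, hα], ?_⟩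
  have hwc := h.comm hw
  have hc1 : Commute α (z ^ u) := (hwc α).symm
  calc τ * (α * z ^ u) * τ⁻¹ = τ * α * (z ^ u * τ⁻¹) := by group
    _ = (τ * α * τ⁻¹) * z ^ u := by rw [hwc]; group
    _ = α ^ l * (z ^ (1 : ℤ) * z ^ u) := by rw [hz']; group
    _ = α ^ l * z ^ (u * l) := by
      rw [← zpow_add]
      congr 1
      apply zpow_congr hzp
      have : 1 + u - u * l = -((l - 1) * u - 1) := by ring
      rw [this]
      exact (dvd_neg).2 hu
    _ = (α * z ^ u) ^ l := by rw [hc1.mul_zpow, ← zpow_mul]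

theorem eigen_unique (h : PCE π) {p : ℕ} (hp : p.Prime) (hc : Nat.card π.ker = p) {τ : L} {l : ℤ}
    (hl : ¬ (p : ℤ) ∣ l - 1) {x y : L} (hxy : π x = π y) (hx : τ * x * τ⁻¹ = x ^ l) (hy : τ * y * τ⁻¹ = y ^ l) :
    x = y := by
  obtain ⟨z, hz, hz'⟩ := exists_central h hxy
  have hzc := h.comm hz
  have hzp : z ^ p = 1 := ker_pow h hc hz
  have h1 : τ * (y * z) * τ⁻¹ = y ^ l * z := by
    calc τ * (y * z) * τ⁻¹ = τ * y * (z * τ⁻¹) := by group
      _ = (τ * y * τ⁻¹) * z := by rw [hzc]; group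
      _ = _ := by rw [hy]
  rw [hz', h1, (show Commute y z from (hzc y).symm).mul_zpow, mul_right_inj] at hx
  have h2 : z = 1 := by
    apply eq_one_of_zpow hp hzp hl
    rw [zpow_sub, ← hx, zpow_one, mul_inv_cancel]
  rw [hz', h2, mul_one]

/-- If `p ∤ l ^ 2 - 1` the lifts of two commuting eigenelements commute. -/
theorem comm_of_sq (h : PCE π) {p : ℕ} (hp : p.Prime) (hc : Nat.card π.ker = p) {t : X} {l : ℤ}
    (hl : ¬ (p : ℤ) ∣ l * l - 1) {x y : L} (hxy : π x * π y = π y * π x) (hx : t * π x * t⁻¹ = (π x) ^ l)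
    (hy : t * π y * t⁻¹ = (π y) ^ l) : x * y = y * x := by
  obtain ⟨τ, rfl⟩ := h.surj t
  have h1 : π ⁅x, y⁆ = 1 := by rw [map_commutatorElement, commutatorElement_eq_one_iff_mul_comm]; exact hxy
  set k := ⁅x, y⁆ with hk
  have hkc := h.comm h1
  have hrel : x * y = k * (y * x) := mul_comm_of_comm.1 rfl
  obtain ⟨z, hz, hz'⟩ := exists_central h (x := τ * x * τ⁻¹) (y := x ^ l)
    (by rw [map_mul, map_mul, map_inv, map_zpow, hx])
  obtain ⟨w, hw, hw'⟩ := exists_central h (x := τ * y * τ⁻¹) (y := y ^ l)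
    (by rw [map_mul, map_mul, map_inv, map_zpow, hy])
  have h2 : (τ * x * τ⁻¹) * (τ * y * τ⁻¹) = k * ((τ * y * τ⁻¹) * (τ * x * τ⁻¹)) := by
    calc (τ * x * τ⁻¹) * (τ * y * τ⁻¹) = τ * (x * y) * τ⁻¹ := by group
      _ = τ * (k * (y * x)) * τ⁻¹ := by rw [← hrel]
      _ = (τ * k) * (y * x) * τ⁻¹ := by group
      _ = (k * τ) * (y * x) * τ⁻¹ := by rw [hkc]
      _ = _ := by group
  rw [hz', hw', rel_central (h.comm hz) (h.comm hw)] at h2
  have h3 := zpow_swap hkc hrel l l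
  rw [h2] at h3
  have h4 : k = k ^ (l * l) := mul_right_cancel h3
  have hkp : k ^ p = 1 := ker_pow h hc h1
  have h5 : k = 1 := by
    apply eq_one_of_zpow hp hkp hl
    rw [zpow_sub, ← h4, zpow_one, mul_inv_cancel]
  rw [h5, one_mul] at hrel
  exact hrel

end basic

section main

variable {L : Type u} {X : Type v} [Group L] [Group X] {π : L →* X}

/-- conjugation by an element of the closure -/
theorem conj_mem_of_gen [Finite L] {A : Subgroup L} {s : Set L} (h : ∀ x ∈ s, ∀ a ∈ A, x * a * x⁻¹ ∈ A) :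
    ∀ x ∈ closure s, ∀ a ∈ A, x * a * x⁻¹ ∈ A := by
  have hN : closure s ≤ normalizer (A : Set L) := by
    rw [closure_le]
    intro x hx
    have h1 : (MulAut.conj x).toMonoidHom '' (A : Set L) ⊆ A := by
      rintro _ ⟨c, hc, rfl⟩
      exact h x hx c hc
    have h2 : (MulAut.conj x).toMonoidHom '' (A : Set L) = A := by
      apply Set.Finite.eq_of_subset_of_encard_le (Set.toFinite _) h1
      rw [Function.Injective.encard_image]
      exact (MulAut.conj x).injective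
    rw [SetLike.mem_coe, mem_normalizer_iff]
    intro c
    refine ⟨fun hc => h x hx c hc, fun hc => ?_⟩
    have h3 : x * c * x⁻¹ ∈ (MulAut.conj x).toMonoidHom '' (A : Set L) := by rw [h2]; exact hc
    obtain ⟨d, hd, hdc⟩ := h3
    have h4 : x * d * x⁻¹ = x * c * x⁻¹ := hdc
    have : d = c := by simpa using h4
    rwa [← this]
  intro x hx a ha
  exact (mem_normalizer_iff.1 (hN hx) a).1 ha

/-- the product of `A` and `D`, `D` normalising `A` -/
def mulSub (A D : Subgroup L) (h : ∀ d ∈ D, ∀ a ∈ A, d * a * d⁻¹ ∈ A) : Subgroup L where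
  carrier := {x | ∃ a ∈ A, ∃ d ∈ D, x = a * d}
  mul_mem' := by
    rintro _ _ ⟨a, ha, d, hd, rfl⟩ ⟨a', ha', d', hd', rfl⟩
    exact ⟨a * (d * a' * d⁻¹), mul_mem ha (h d hd a' ha'), d * d', mul_mem hd hd', by group⟩
  one_mem' := ⟨1, one_mem _, 1, one_mem _, by simp⟩
  inv_mem' := by
    rintro _ ⟨a, ha, d, hd, rfl⟩
    refine ⟨d⁻¹ * a⁻¹ * (d⁻¹)⁻¹, h _ (inv_mem hd) _ (inv_mem ha), d⁻¹, inv_mem hd, by group⟩

/-- **The kernel lies in the commutator subgroup of the lift of the complement.** -/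
theorem ker_le [Finite L] (h : PCE π) {p : ℕ} (hp : p.Prime) (hc : Nat.card π.ker = p) {t : X} {m : ℕ}
    (ht : t ^ m = 1) (hm : ¬ p ∣ m) {l : ℤ} (hl : ¬ (p : ℤ) ∣ l - 1) {ι κ : Type*} (a : ι → X) (b : κ → X)
    (ha : ∀ i, t * a i * t⁻¹ = a i ^ l) (hap : ∀ i, a i ^ p = 1) (hb : ∀ j, t * b j = b j * t)
    (hba : ∀ j i, b j * a i * (b j)⁻¹ ∈ closure (Set.range a))
    (hcomm : ∀ x y : L, ∀ i i', π x = a i → π y = a i' → x * y = y * x)
    (hidx : ¬ p ∣ (closure (Set.range a ∪ Set.range b)).index) (β : κ → L) (hβ : ∀ j, π (β j) = b j) :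
    π.ker ≤ ⁅closure (Set.range β), closure (Set.range β)⁆ := by
  have hP : IsPGroup p π.ker := IsPGroup.of_card (n := 1) (by rw [hc, pow_one])
  obtain ⟨τ, rfl, hτ⟩ := exists_tau h hp hc ht hm
  choose α hα hα' using fun i => exists_eigen h hp hc (τ := τ) hl (ha i)
  set A := closure (Set.range α) with hA
  set B := closure (Set.range β) with hB
  -- `A` is commutative
  have hAc : ∀ x ∈ A, ∀ y ∈ A, x * y = y * x := by
    have h1 : ∀ i, ∀ y ∈ A, α i * y = y * α i := by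
      intro i y hy
      rw [hA] at hy
      induction hy using closure_induction with
      | mem s hs =>
        obtain ⟨i', rfl⟩ := hs
        exact hcomm _ _ i i' (hα i) (hα i')
      | one => simp
      | mul x y _ _ hx hy =>
        rw [← mul_assoc, hx, mul_assoc, hy, mul_assoc]
      | inv x _ hx =>
        exact (show Commute (α i) x from hx).inv_right
    intro x hx y hy
    rw [hA] at hx
    induction hx using closure_induction with
    | mem s hs =>
      obtain ⟨i, rfl⟩ := hs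
      exact h1 i y hy
    | one => simp
    | mul x z _ _ hx hz =>
      rw [mul_assoc, hz, ← mul_assoc, hx, mul_assoc]
    | inv x _ hx =>
      exact (show Commute x y from hx).inv_left
  have hAτ : ∀ x ∈ A, τ * x * τ⁻¹ = x ^ l := by
    intro x hx
    rw [hA] at hx
    induction hx using closure_induction with
    | mem s hs => obtain ⟨i, rfl⟩ := hs; exact hα' i
    | one => simp
    | mul x y hx' hy' hx hy =>
      rw [(show Commute x y from hAc x hx' y hy').mul_zpow, ← hx, ← hy]; group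
    | inv x _ hx =>
      rw [inv_zpow, ← hx]; group
  have hAp : ∀ x ∈ A, x ^ p = 1 := by
    intro x hx
    rw [hA] at hx
    induction hx using closure_induction with
    | mem s hs =>
      obtain ⟨i, rfl⟩ := hs
      have h1 : π (α i ^ p) = 1 := by rw [map_pow, hα, hap]
      apply eigen_unique h hp hc (τ := τ) hl (y := 1) (by rw [h1, map_one]) _ (by simp)
      have h2 : τ * α i ^ p * τ⁻¹ = (τ * α i * τ⁻¹) ^ p := by rw [conj_pow]
      rw [h2, hα', ← zpow_natCast, ← zpow_natCast, ← zpow_mul, ← zpow_mul, mul_comm]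
    | one => simp
    | mul x y hx' hy' hx hy =>
      rw [(show Commute x y from hAc x hx' y hy').mul_pow, hx, hy, mul_one]
    | inv x _ hx =>
      rw [inv_pow, hx, inv_one]
  have hAπ : A.map π = closure (Set.range a) := by
    rw [hA, MonoidHom.map_closure]
    congr 1
    ext x
    constructor
    · rintro ⟨_, ⟨i, rfl⟩, rfl⟩; exact ⟨i, (hα i).symm⟩
    · rintro ⟨i, rfl⟩; exact ⟨α i, ⟨i, rfl⟩, hα i⟩
  have hβτ : ∀ j, τ * β j = β j * τ := fun j => comm_tau h hp hc hτ hm (by rw [hβ]; exact hb j)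
  have hβA : ∀ j, ∀ x ∈ A, β j * x * (β j)⁻¹ ∈ A := by
    intro j x hx
    have h0 : A ≤ A.comap (MulAut.conj (β j)).toMonoidHom := by
      rw [hA, closure_le]
      rintro _ ⟨i, rfl⟩
      show β j * α i * (β j)⁻¹ ∈ closure (Set.range α)
      have h1 : π (β j * α i * (β j)⁻¹) ∈ A.map π := by
        rw [hAπ, map_mul, map_mul, map_inv, hβ, hα]; exact hba j i
      obtain ⟨y, hy, hy'⟩ := h1
      have h2 : β j * α i * (β j)⁻¹ = y := by
        apply eigen_unique h hp hc (τ := τ) hl hy'.symm _ (hAτ y hy)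
        have hτ' : (β j)⁻¹ * τ⁻¹ = τ⁻¹ * (β j)⁻¹ := by rw [← mul_inv_rev, hβτ, mul_inv_rev]
        calc τ * (β j * α i * (β j)⁻¹) * τ⁻¹ = (τ * β j) * α i * ((β j)⁻¹ * τ⁻¹) := by group
          _ = (β j * τ) * α i * (τ⁻¹ * (β j)⁻¹) := by rw [hβτ, hτ']
          _ = β j * (τ * α i * τ⁻¹) * (β j)⁻¹ := by group
          _ = β j * (α i) ^ l * (β j)⁻¹ := by rw [hα']
          _ = (β j * α i * (β j)⁻¹) ^ l := by rw [conj_zpow]
      rw [h2]; exact hy
    exact h0 hx
  have hBA : ∀ x ∈ B, ∀ y ∈ A, x * y * x⁻¹ ∈ A := by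
    apply conj_mem_of_gen
    rintro _ ⟨j, rfl⟩
    exact hβA j
  have hBτ : ∀ x ∈ B, τ * x * τ⁻¹ = x := by
    intro x hx
    rw [hB] at hx
    have : closure (Set.range β) ≤ centralizer {τ} := by
      rw [closure_le]
      rintro _ ⟨j, rfl⟩
      rw [SetLike.mem_coe, mem_centralizer_singleton_iff]
      exact (hβτ j).symm
    have h1 := mem_centralizer_singleton_iff.1 (this hx)
    rw [← h1, mul_inv_cancel_right]
  have hDB : ⁅B, B⁆ ≤ B := by
    rw [commutator_le]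
    intro x hx y hy
    rw [commutatorElement_def]
    exact mul_mem (mul_mem (mul_mem hx hy) (inv_mem hx)) (inv_mem hy)
  have hBD : ∀ x ∈ B, ∀ d ∈ ⁅B, B⁆, x * d * x⁻¹ ∈ ⁅B, B⁆ := by
    intro x hx d hd
    have h1 : x * d * x⁻¹ = ⁅x, d⁆ * d := by rw [commutatorElement_def]; group
    rw [h1]
    exact mul_mem (commutator_mem_commutator hx (hDB hd)) hd
  have hDA : ∀ d ∈ ⁅B, B⁆, ∀ x ∈ A, d * x * d⁻¹ ∈ A := fun d hd => hBA d (hDB hd)
  have hle : π.ker ≤ mulSub A ⁅B, B⁆ hDA := by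
    refine Cfsg.Agent.H48.Crit.ker_le h hp hP (s := Set.range α ∪ Set.range β) ?_ ?_ ?_
    · have : π '' (Set.range α ∪ Set.range β) = Set.range a ∪ Set.range b := by
        rw [Set.image_union, ← Set.range_comp, ← Set.range_comp]
        congr 2
        · funext i; exact hα i
        · funext j; exact hβ j
      rwa [this]
    · rintro _ (⟨i, rfl⟩ | ⟨j, rfl⟩) _ ⟨x, hx, d, hd, rfl⟩
      · have hi : α i ∈ A := subset_closure ⟨i, rfl⟩
        refine ⟨α i * x * (d * (α i)⁻¹ * d⁻¹), mul_mem (mul_mem hi hx) (hDA d hd _ (inv_mem hi)), d, hd, by group⟩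
      · have hj : β j ∈ B := subset_closure ⟨j, rfl⟩
        exact ⟨β j * x * (β j)⁻¹, hβA j x hx, β j * d * (β j)⁻¹, hBD _ hj d hd, by group⟩
    · rintro _ (⟨i, rfl⟩ | ⟨j, rfl⟩) _ (⟨i', rfl⟩ | ⟨j', rfl⟩)
      · rw [commutatorElement_eq_one_iff_mul_comm.2 (hcomm _ _ i i' (hα i) (hα i'))]
        exact one_mem _
      · have hi : α i ∈ A := subset_closure ⟨i, rfl⟩
        refine ⟨⁅α i, β j'⁆, ?_, 1, one_mem _, (mul_one _).symm⟩
        have : ⁅α i, β j'⁆ = α i * (β j' * (α i)⁻¹ * (β j')⁻¹) := by rw [commutatorElement_def]; group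
        rw [this]
        exact mul_mem hi (hβA j' _ (inv_mem hi))
      · have hi : α i' ∈ A := subset_closure ⟨i', rfl⟩
        refine ⟨⁅β j, α i'⁆, ?_, 1, one_mem _, (mul_one _).symm⟩
        rw [commutatorElement_def]
        exact mul_mem (hβA j _ hi) (inv_mem hi)
      · exact ⟨1, one_mem _, ⁅β j, β j'⁆, commutator_mem_commutator (subset_closure ⟨j, rfl⟩) (subset_closure ⟨j', rfl⟩),
          (one_mul _).symm⟩
  intro z hz
  obtain ⟨x, hx, d, hd, hzx⟩ := hle hz
  have hz1 : π z = 1 := hz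
  have h1 : τ * z * τ⁻¹ = z := by rw [← h.comm hz1 τ, mul_inv_cancel_right]
  have h2 : τ * z * τ⁻¹ = x ^ l * d := by
    have : τ * z * τ⁻¹ = (τ * x * τ⁻¹) * (τ * d * τ⁻¹) := by rw [hzx]; group
    rw [this, hAτ x hx, hBτ d (hDB hd)]
  have h3 : x ^ l = x := by
    have : x ^ l * d = x * d := by rw [← h2, h1, hzx]
    exact mul_right_cancel this
  have h4 : x = 1 := by
    apply eq_one_of_zpow hp (hAp x hx) hl
    rw [zpow_sub, h3, zpow_one, mul_inv_cancel]
  rw [hzx, h4, one_mul]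
  exact hd

end main

section finish

variable {L : Type u} {X : Type v} [Group L] [Group X] {π : L →* X}

/-- cyclic complement -/
theorem one_false (h : PCE π) {p : ℕ} (hp : p.Prime) (hc : Nat.card π.ker = p) {β : Unit → L}
    (hle : π.ker ≤ ⁅closure (Set.range β), closure (Set.range β)⁆) : False := by
  have h1 : ⁅closure (Set.range β), closure (Set.range β)⁆ ≤ ⊥ := by
    apply commutator_closure_le
    · intro s _ m hm
      rw [mem_bot] at hm ⊢
      subst hm
      simp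
    · rintro _ ⟨i, rfl⟩ _ ⟨j, rfl⟩
      rw [mem_bot, commutatorElement_self]
  have h2 : π.ker = ⊥ := le_bot_iff.1 (hle.trans h1)
  rw [h2, Subgroup.card_bot] at hc
  exact hp.one_lt.ne hc

/-- complement `C_p × C_p`, an element acting with determinant different from one -/
theorem sq_false (h : PCE π) {p : ℕ} (hp : p.Prime) (hc : Nat.card π.ker = p) {α β γ : L}
    (hab : π α * π β = π β * π α) {a b c d : ℤ} (hga : π γ * π α * (π γ)⁻¹ = (π α) ^ a * (π β) ^ b)
    (hgb : π γ * π β * (π γ)⁻¹ = (π α) ^ c * (π β) ^ d) (hdet : ¬ (p : ℤ) ∣ a * d - b * c - 1)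
    (hle : π.ker ≤ ⁅closure {α, β}, closure {α, β}⁆) : False := by
  set k := ⁅α, β⁆ with hk
  have hk1 : π k = 1 := by
    rw [hk, map_commutatorElement, commutatorElement_eq_one_iff_mul_comm, hab]
  have hkc := h.comm hk1
  have hrel : α * β = k * (β * α) := mul_comm_of_comm.1 rfl
  obtain ⟨z, hz, hz'⟩ := exists_central h (x := γ * α * γ⁻¹) (y := α ^ a * β ^ b)
    (by rw [map_mul, map_mul, map_mul, map_inv, map_zpow, map_zpow, hga])
  obtain ⟨w, hw, hw'⟩ := exists_central h (x := γ * β * γ⁻¹) (y := α ^ c * β ^ d)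
    (by rw [map_mul, map_mul, map_mul, map_inv, map_zpow, map_zpow, hgb])
  have h1 : (γ * α * γ⁻¹) * (γ * β * γ⁻¹) = k * ((γ * β * γ⁻¹) * (γ * α * γ⁻¹)) := by
    calc (γ * α * γ⁻¹) * (γ * β * γ⁻¹) = γ * (α * β) * γ⁻¹ := by group
      _ = γ * (k * (β * α)) * γ⁻¹ := by rw [← hrel]
      _ = (γ * k) * (β * α) * γ⁻¹ := by group
      _ = (k * γ) * (β * α) * γ⁻¹ := by rw [hkc]
      _ = _ := by group
  rw [hz', hw', rel_central (h.comm hz) (h.comm hw)] at h1
  have h2 := comm_zpow hkc hrel a b c d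
  rw [h1] at h2
  have h3 : k = k ^ (a * d - b * c) := mul_right_cancel h2
  have hkp : k ^ p = 1 := ker_pow h hc hk1
  have h4 : k ^ (a * d - b * c - 1) = 1 := by
    rw [zpow_sub, ← h3, zpow_one, mul_inv_cancel]
  have h5 : k = 1 := eq_one_of_zpow hp hkp hdet h4
  rw [h5, one_mul] at hrel
  have h7 : ⁅closure {α, β}, closure {α, β}⁆ ≤ ⊥ := by
    apply commutator_closure_le
    · intro s _ m hm
      rw [mem_bot] at hm ⊢
      subst hm
      simp
    · intro s hs t ht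
      rw [mem_bot, commutatorElement_eq_one_iff_mul_comm]
      rcases hs with rfl | rfl <;> rcases ht with rfl | rfl
      · rfl
      · exact hrel
      · exact hrel.symm
      · rfl
  have h8 : π.ker = ⊥ := le_bot_iff.1 (hle.trans h7)
  rw [h8, Subgroup.card_bot] at hc
  exact hp.one_lt.ne hc

/-- extraspecial complement, inverted modulo the centre -/
theorem extra_false (h : PCE π) {p : ℕ} (hp : p.Prime) (hp2 : p ≠ 2) (hc : Nat.card π.ker = p) {α β γ : L}
    (hca : ⁅π α, π β⁆ * π α = π α * ⁅π α, π β⁆) (hcb : ⁅π α, π β⁆ * π β = π β * ⁅π α, π β⁆)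
    (hc1 : ⁅π α, π β⁆ ≠ 1) (hx : (π α) ^ p = 1) {i j : ℤ}
    (hga : π γ * π α * (π γ)⁻¹ = (π α)⁻¹ * ⁅π α, π β⁆ ^ i)
    (hgb : π γ * π β * (π γ)⁻¹ = (π β)⁻¹ * ⁅π α, π β⁆ ^ j)
    (hle : π.ker ≤ ⁅closure {α, β}, closure {α, β}⁆) : False := by
  set κ := ⁅α, β⁆ with hκ
  have hπκ : π κ = ⁅π α, π β⁆ := by rw [hκ, map_commutatorElement]
  rw [← hπκ] at hca hcb hc1 hga hgb
  -- the image of the commutator under `γ`
  have hinv : ∀ x : X, π κ * x = x * π κ → (π κ) * x⁻¹ = x⁻¹ * π κ := fun x hx =>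
    (show Commute (π κ) x from hx).inv_right
  have hbase : π γ * π κ * (π γ)⁻¹ = π κ := by
    have e1 : π γ * π κ * (π γ)⁻¹ = ⁅π γ * π α * (π γ)⁻¹, π γ * π β * (π γ)⁻¹⁆ := by
      rw [hπκ]; simp only [commutatorElement_def]; group
    rw [e1, hga, hgb]
    have ci : ∀ (n : ℤ), Commute ((π κ) ^ n) (π α) := fun n => Commute.zpow_left hca n
    have cj : ∀ (n : ℤ), Commute ((π κ) ^ n) (π β) := fun n => Commute.zpow_left hcb n
    have h0 : ∀ (P Q c1 c2 : X), Commute c1 P → Commute c1 Q → Commute c2 P → Commute c2 Q → Commute c1 c2 →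
        ⁅P * c1, Q * c2⁆ = ⁅P, Q⁆ := by
      intro P Q c1 c2 h1 h2 h3 h4 h5
      simp only [commutatorElement_def, mul_inv_rev]
      calc P * c1 * (Q * c2) * (c1⁻¹ * P⁻¹) * (c2⁻¹ * Q⁻¹)
          = P * (c1 * Q) * c2 * c1⁻¹ * P⁻¹ * c2⁻¹ * Q⁻¹ := by group
        _ = P * (Q * c1) * c2 * c1⁻¹ * P⁻¹ * c2⁻¹ * Q⁻¹ := by rw [h2.eq]
        _ = P * Q * (c1 * c2) * c1⁻¹ * P⁻¹ * c2⁻¹ * Q⁻¹ := by group
        _ = P * Q * (c2 * c1) * c1⁻¹ * P⁻¹ * c2⁻¹ * Q⁻¹ := by rw [h5.eq]
        _ = P * Q * (c2 * P⁻¹) * c2⁻¹ * Q⁻¹ := by group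
        _ = P * Q * (P⁻¹ * c2) * c2⁻¹ * Q⁻¹ := by rw [h3.inv_right.eq]
        _ = P * Q * P⁻¹ * Q⁻¹ := by group
    rw [h0 _ _ _ _ (ci i).inv_right (cj i).inv_right (ci j).inv_right (cj j).inv_right
      (Commute.zpow_zpow_self _ _ _)]
    -- `⁅α⁻¹, β⁻¹⁆ = ⁅α, β⁆` for central commutator
    have e2 : ⁅(π α)⁻¹, (π β)⁻¹⁆ = (π α)⁻¹ * ((π β)⁻¹ * π κ * π β) * π α := by
      rw [hπκ]; simp only [commutatorElement_def]; group
    rw [e2, mul_assoc (π β)⁻¹, hcb, inv_mul_cancel_left, mul_assoc, hca, inv_mul_cancel_left]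
  obtain ⟨w, hw, hw'⟩ := exists_central h (x := γ * κ * γ⁻¹) (y := κ)
    (by rw [map_mul, map_mul, map_inv, hbase])
  -- commutators of `κ` with lifts
  have hz2 : ∀ (ξ : L) (n : ℤ), π κ * π ξ = π ξ * π κ → π γ * π ξ * (π γ)⁻¹ = (π ξ)⁻¹ * (π κ) ^ n → κ * ξ = ξ * κ := by
    intro ξ n h1 h2
    have hk1 : π ⁅κ, ξ⁆ = 1 := by rw [map_commutatorElement, commutatorElement_eq_one_iff_mul_comm]; exact h1
    set k := ⁅κ, ξ⁆ with hk
    have hkc := h.comm hk1
    have hrel : κ * ξ = k * (ξ * κ) := mul_comm_of_comm.1 rfl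
    obtain ⟨z, hz, hz'⟩ := exists_central h (x := γ * ξ * γ⁻¹) (y := ξ⁻¹ * κ ^ n)
      (by rw [map_mul, map_mul, map_inv, map_mul, map_inv, map_zpow, h2])
    have h3 : (γ * κ * γ⁻¹) * (γ * ξ * γ⁻¹) = k * ((γ * ξ * γ⁻¹) * (γ * κ * γ⁻¹)) := by
      calc (γ * κ * γ⁻¹) * (γ * ξ * γ⁻¹) = γ * (κ * ξ) * γ⁻¹ := by group
        _ = γ * (k * (ξ * κ)) * γ⁻¹ := by rw [← hrel]
        _ = (γ * k) * (ξ * κ) * γ⁻¹ := by group
        _ = (k * γ) * (ξ * κ) * γ⁻¹ := by rw [hkc]
        _ = _ := by group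
    rw [hw', hz', rel_central (h.comm hw) (h.comm hz)] at h3
    -- `κ (ξ⁻¹ κ^n) = k (ξ⁻¹ κ^n κ)`, also `κ ξ⁻¹ = k⁻¹ ξ⁻¹ κ`
    have h4 : κ * ξ⁻¹ = k⁻¹ * (ξ⁻¹ * κ) := by
      have := zpow_swap hkc hrel 1 (-1)
      rw [zpow_one, zpow_neg_one] at this
      rw [this]
      norm_num
    have h5 : κ * (ξ⁻¹ * κ ^ n) = k⁻¹ * (ξ⁻¹ * κ ^ n * κ) := by
      rw [← mul_assoc, h4, mul_assoc, mul_assoc, (Commute.self_zpow κ n).eq, mul_assoc]
    rw [h5] at h3
    have h6 : k⁻¹ = k := mul_right_cancel h3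
    have hkp : k ^ p = 1 := ker_pow h hc hk1
    have h7 : k = 1 := by
      apply eq_one_of_zpow hp hkp (m := 2)
      · intro hd
        have : p ∣ 2 := by exact_mod_cast hd
        exact hp2 ((Nat.prime_dvd_prime_iff_eq hp Nat.prime_two).1 this)
      · rw [zpow_ofNat, pow_two]
        nth_rewrite 1 [← h6]
        exact inv_mul_cancel k
    rw [hk, commutatorElement_eq_one_iff_mul_comm] at h7
    exact h7
  have hk : κ * α = α * κ := hz2 α i hca hga
  have hl : κ * β = β * κ := hz2 β j hcb hgb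
  -- `κ ^ p = 1`
  have h8 : α ^ p * β = β * α ^ p := by
    exact h.comm (by rw [map_pow, hx]) β
  have h9 : κ ^ p = 1 := by
    have h10 : β⁻¹ * α * β = κ * α := by
      have h11 : α * β = κ * (β * α) := mul_comm_of_comm.1 rfl
      calc β⁻¹ * α * β = β⁻¹ * (α * β) := by group
        _ = β⁻¹ * (κ * (β * α)) := by rw [← h11]
        _ = β⁻¹ * (κ * β) * α := by group
        _ = β⁻¹ * (β * κ) * α := by rw [hl]
        _ = κ * α := by group
    have h11 : β⁻¹ * α ^ p * β = κ ^ p * α ^ p := by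
      have h12 : (β⁻¹ * α * β) ^ p = β⁻¹ * α ^ p * β := by
        have := conj_pow (i := p) (a := β⁻¹) (b := α)
        rwa [inv_inv] at this
      rw [← h12, h10]
      exact (show Commute κ α from hk).mul_pow p
    rw [mul_assoc, h8, inv_mul_cancel_left] at h11
    exact (mul_eq_right.1 h11.symm)
  have hcomm : ∀ s ∈ ({α, β} : Set L), ∀ m ∈ zpowers κ, s * m = m * s := by
    intro s hs m hm
    obtain ⟨j, rfl⟩ := mem_zpowers_iff.1 hm
    have h1 : Commute κ s := by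
      rcases hs with rfl | rfl
      · exact hk
      · exact hl
    exact (h1.zpow_left j).symm
  have h10 : ⁅closure {α, β}, closure {α, β}⁆ ≤ zpowers κ := by
    apply commutator_closure_le
    · intro s hs m hm
      have h1 := hcomm s hs m hm
      constructor
      · rw [h1, mul_inv_cancel_right]; exact hm
      · rw [mul_assoc, ← h1, inv_mul_cancel_left]; exact hm
    · intro s hs t ht
      rcases hs with rfl | rfl <;> rcases ht with rfl | rfl
      · rw [commutatorElement_self]; exact one_mem _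
      · exact mem_zpowers _
      · rw [← commutatorElement_inv]; exact inv_mem (mem_zpowers _)
      · rw [commutatorElement_self]; exact one_mem _
  have h11 : π.ker = ⊥ := by
    rw [eq_bot_iff]
    intro z hz
    obtain ⟨j, rfl⟩ := mem_zpowers_iff.1 (h10 (hle hz))
    have h12 : (π κ) ^ j = 1 := by rw [← map_zpow]; exact hz
    by_cases hd : (p : ℤ) ∣ j
    · exact mem_bot.2 (zpow_eq_one_of_dvd h9 hd)
    · exact absurd (eq_one_of_zpow hp (by rw [← map_pow, h9, map_one]) hd h12) hc1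
  rw [h11, Subgroup.card_bot] at hc
  exact hp.one_lt.ne hc

end finish

end Cfsg.Agent.H49.Red
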