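import Mathlib
import Cfsg.Agent.H49.Red

/-!
# The commutator form of a perfect central extension; orders of explicit `p`-subgroups (helper49)

* `exists_form` : for a perfect central extension of `X` with kernel of prime order `p` the commutators of lifts give a
  map `c : X → X → ZMod p`, additive and invariant on commuting elements.
* `cyc` : it vanishes on the conjugates `v i = f ^ i a f ^ (-i)`, `i < n`, if they commute, `v n` is a product of them and
  a small system of equations over `ZMod p` has no nontrivial solution.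
* `pow_dvd_cyc`, `pow_dvd_two` : the subgroup generated by the `v i` has order divisible by `p ^ n`, and adding two more
  elements gives `p ^ (n + 2)`.
-/

set_option autoImplicit false
set_option linter.style.haveILetI false
set_option linter.unusedVariables false

namespace Cfsg.Agent.H49.Form

open Subgroup Cfsg.Agent.H51.Mult Cfsg.Agent.H51.Crit
open scoped commutatorElement

universe u v

section form

variable {L : Type u} {X : Type v} [Group L] [Group X] {π : L →* X}

/-- the properties of the commutator form -/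
structure IsForm {X : Type v} [Group X] {p : ℕ} (c : X → X → ZMod p) : Prop where
  mul_left : ∀ x y z, x * z = z * x → y * z = z * y → c (x * y) z = c x z + c y z
  mul_right : ∀ x y z, z * x = x * z → z * y = y * z → c z (x * y) = c z x + c z y
  self : ∀ x, c x x = 0
  swap : ∀ x y, x * y = y * x → c y x = - c x y
  conj : ∀ g x y, x * y = y * x → c (g * x * g⁻¹) (g * y * g⁻¹) = c x y

theorem commutator_central {a b z w : L} (hz : ∀ g, z * g = g * z) (hw : ∀ g, w * g = g * w) :
    ⁅a * z, b * w⁆ = ⁅a, b⁆ := by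
  have h := (rel_central (a := a) (b := b) (k := ⁅a, b⁆) hz hw).2 (mul_comm_of_comm.1 rfl)
  exact mul_comm_of_comm.2 h

theorem exists_form (h : PCE π) {p : ℕ} (hp : p.Prime) (hc : Nat.card π.ker = p) :
    ∃ c : X → X → ZMod p, IsForm c ∧ ∀ x y : L, π x * π y = π y * π x → c (π x) (π y) = 0 → x * y = y * x := by
  classical
  haveI : Fact p.Prime := ⟨hp⟩
  haveI : IsCyclic π.ker := isCyclic_of_prime_card hc
  have hcard : Nat.card π.ker = Nat.card (Multiplicative (ZMod p)) := by
    rw [hc, Nat.card_congr (Multiplicative.toAdd (α := ZMod p)), Nat.card_zmod]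
  let ψ : π.ker ≃* Multiplicative (ZMod p) := mulEquivOfCyclicCardEq hcard
  let φ : L → ZMod p := fun z => if hz : z ∈ π.ker then Multiplicative.toAdd (ψ ⟨z, hz⟩) else 0
  have hφ : ∀ z w : L, π z = 1 → π w = 1 → φ (z * w) = φ z + φ w := by
    intro z w hz hw
    have hz' : z ∈ π.ker := hz
    have hw' : w ∈ π.ker := hw
    simp only [φ, dif_pos hz', dif_pos hw', dif_pos (mul_mem hz' hw')]
    have : (⟨z * w, mul_mem hz' hw'⟩ : π.ker) = ⟨z, hz'⟩ * ⟨w, hw'⟩ := rfl
    rw [this, map_mul]
    rfl
  have hφ1 : φ 1 = 0 := by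
    have := hφ 1 1 (map_one π) (map_one π)
    rw [mul_one] at this
    exact left_eq_add.1 this
  have hφ0 : ∀ z : L, π z = 1 → φ z = 0 → z = 1 := by
    intro z hz h0
    have hz' : z ∈ π.ker := hz
    simp only [φ, dif_pos hz'] at h0
    have h1 : ψ ⟨z, hz'⟩ = 1 := h0
    have h2 : (⟨z, hz'⟩ : π.ker) = 1 := ψ.injective (by rw [h1, map_one])
    exact congrArg Subtype.val h2
  choose s hs using h.surj
  let c : X → X → ZMod p := fun x y => φ ⁅s x, s y⁆
  have hind : ∀ a b : L, c (π a) (π b) = φ ⁅a, b⁆ := by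
    intro a b
    obtain ⟨z, hz, hz'⟩ := exists_central h (x := s (π a)) (y := a) (hs _)
    obtain ⟨w, hw, hw'⟩ := exists_central h (x := s (π b)) (y := b) (hs _)
    show φ ⁅s (π a), s (π b)⁆ = _
    rw [hz', hw', commutator_central (h.comm hz) (h.comm hw)]
  have hker : ∀ a b : L, π a * π b = π b * π a → π ⁅a, b⁆ = 1 := fun a b hab => by
    rw [map_commutatorElement, commutatorElement_eq_one_iff_mul_comm]; exact hab
  have hswap : ∀ x y, x * y = y * x → c y x = - c x y := by
    intro x y hxy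
    obtain ⟨a, rfl⟩ := h.surj x
    obtain ⟨b, rfl⟩ := h.surj y
    rw [hind, hind]
    have h1 : π ⁅a, b⁆ = 1 := hker _ _ hxy
    have h2 : π ⁅b, a⁆ = 1 := hker _ _ hxy.symm
    have h3 := hφ ⁅b, a⁆ ⁅a, b⁆ h2 h1
    rw [← commutatorElement_inv a b, inv_mul_cancel, hφ1, commutatorElement_inv] at h3
    exact eq_neg_of_add_eq_zero_left h3.symm
  have hleft : ∀ x y z, x * z = z * x → y * z = z * y → c (x * y) z = c x z + c y z := by
    intro x y z hx hy
    obtain ⟨a, rfl⟩ := h.surj x
    obtain ⟨b, rfl⟩ := h.surj y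
    obtain ⟨d, rfl⟩ := h.surj z
    rw [← map_mul, hind, hind, hind]
    have h1 : ⁅a * b, d⁆ = ⁅a, d⁆ * ⁅b, d⁆ := by
      have e : ⁅a * b, d⁆ = (a * ⁅b, d⁆ * a⁻¹) * ⁅a, d⁆ := by simp only [commutatorElement_def]; group
      have h2 := h.comm (hker b d hy)
      rw [e, ← h2 a, mul_inv_cancel_right, h2]
    rw [h1]
    exact hφ _ _ (hker _ _ hx) (hker _ _ hy)
  refine ⟨c, ⟨hleft, ?_, ?_, hswap, ?_⟩, ?_⟩
  · intro x y z hx hy
    have hxy : z * (x * y) = x * y * z := by rw [← mul_assoc, hx, mul_assoc, hy, mul_assoc]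
    rw [hswap (x * y) z hxy.symm, hleft x y z hx.symm hy.symm, hswap z x hx, hswap z y hy]
    ring
  · intro x
    show φ ⁅s x, s x⁆ = 0
    rw [commutatorElement_self, hφ1]
  · intro g x y hxy
    obtain ⟨a, rfl⟩ := h.surj x
    obtain ⟨b, rfl⟩ := h.surj y
    obtain ⟨k, rfl⟩ := h.surj g
    rw [← map_inv, ← map_mul, ← map_mul, ← map_mul, ← map_mul, hind, hind]
    have h1 : ⁅k * a * k⁻¹, k * b * k⁻¹⁆ = k * ⁅a, b⁆ * k⁻¹ := by simp only [commutatorElement_def]; group
    rw [h1, ← h.comm (hker a b hxy) k, mul_inv_cancel_right]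
  · intro x y hxy h0
    rw [hind] at h0
    exact commutatorElement_eq_one_iff_mul_comm.1 (hφ0 _ (hker _ _ hxy) h0)

end form

section cyc

variable {X : Type v} [Group X]

/-- conjugates of `a` by the powers of `f` -/
def vv (f a : X) (i : ℕ) : X := f ^ i * a * (f ^ i)⁻¹

theorem vv_zero (f a : X) : vv f a 0 = a := by simp [vv]

theorem vv_conj (f a : X) (i j : ℕ) : f ^ i * vv f a j * (f ^ i)⁻¹ = vv f a (i + j) := by
  unfold vv; rw [pow_add]; group

theorem vv_succ (f a : X) (i : ℕ) : f * vv f a i * f⁻¹ = vv f a (i + 1) := by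
  have := vv_conj f a 1 i
  rw [pow_one] at this
  rw [this, add_comm]

theorem vv_comm {f a : X} {n : ℕ} (hk : ∀ k < n, a * vv f a k = vv f a k * a) :
    ∀ i < n, ∀ j < n, vv f a i * vv f a j = vv f a j * vv f a i := by
  have key : ∀ i j, i ≤ j → j < n → vv f a i * vv f a j = vv f a j * vv f a i := by
    intro i j hij hj
    obtain ⟨k, rfl⟩ := Nat.exists_eq_add_of_le hij
    rw [← vv_conj f a i k]
    have h1 : vv f a i = f ^ i * a * (f ^ i)⁻¹ := rfl
    rw [h1]
    have h2 := hk k (by omega)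
    calc f ^ i * a * (f ^ i)⁻¹ * (f ^ i * vv f a k * (f ^ i)⁻¹) = f ^ i * (a * vv f a k) * (f ^ i)⁻¹ := by group
      _ = f ^ i * (vv f a k * a) * (f ^ i)⁻¹ := by rw [h2]
      _ = _ := by group
  intro i hi j hj
  rcases le_total i j with h | h
  · exact key i j h hj
  · exact (key j i h hi).symm

theorem form_list {p : ℕ} {c : X → X → ZMod p} (hc : IsForm c) {z : X} (v : ℕ → X) (w : List ℕ)
    (h : ∀ k ∈ w, z * v k = v k * z) : z * (w.map v).prod = (w.map v).prod * z ∧
      c z (w.map v).prod = (w.map fun k => c z (v k)).sum := by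
  induction w with
  | nil =>
    refine ⟨by simp, ?_⟩
    have := hc.mul_right 1 1 z (by simp) (by simp)
    rw [mul_one] at this
    simpa using this
  | cons k w ih =>
    obtain ⟨h1, h2⟩ := ih (fun k hk => h k (List.mem_cons_of_mem _ hk))
    have h3 := h k List.mem_cons_self
    refine ⟨?_, ?_⟩
    · rw [List.map_cons, List.prod_cons, ← mul_assoc, h3, mul_assoc, h1, mul_assoc]
    · rw [List.map_cons, List.prod_cons, hc.mul_right _ _ _ h3 h1, h2, List.map_cons, List.sum_cons]

/-- **The form vanishes on a cyclic module.** -/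
theorem cyc {p : ℕ} {c : X → X → ZMod p} (hc : IsForm c) {f a : X} {n : ℕ}
    (hk : ∀ k < n, a * vv f a k = vv f a k * a) (w : List ℕ) (hw : ∀ k ∈ w, k < n)
    (hn : vv f a n = (w.map (vv f a)).prod)
    (hD : ∀ D : ℕ → ZMod p, D 0 = 0 → (∀ i, i + 1 < n →
      (w.map fun k => if i + 1 ≤ k then D (k - (i + 1)) else - D (i + 1 - k)).sum = D (n - 1 - i)) →
      ∀ k < n, D k = 0) :
    ∀ i < n, ∀ j < n, c (vv f a i) (vv f a j) = 0 := by
  have hcm := vv_comm hk
  -- `c (v i) (v (i + k)) = D k`
  have hshift : ∀ i k, k < n → c (vv f a i) (vv f a (i + k)) = c a (vv f a k) := by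
    intro i k hkn
    rw [← vv_conj f a i k]
    have h1 : vv f a i = f ^ i * a * (f ^ i)⁻¹ := rfl
    rw [h1]
    exact hc.conj _ _ _ (hk k hkn)
  have hval : ∀ i < n, ∀ k < n, c (vv f a i) (vv f a k) =
      if i ≤ k then c a (vv f a (k - i)) else - c a (vv f a (i - k)) := by
    intro i hi k hk'
    split_ifs with hik
    · obtain ⟨j, rfl⟩ := Nat.exists_eq_add_of_le hik
      rw [hshift i j (by omega)]
      congr 2; omega
    · rw [hc.swap (vv f a k) (vv f a i) (hcm k hk' i hi)]
      obtain ⟨j, rfl⟩ := Nat.exists_eq_add_of_le (Nat.le_of_not_le hik)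
      rw [hshift k j (by omega)]
      congr 3; omega
  have key : ∀ k < n, c a (vv f a k) = 0 := by
    apply hD (fun k => c a (vv f a k))
    · show c a (vv f a 0) = 0
      rw [vv_zero]; exact hc.self a
    · intro i hi
      have h1 : c (vv f a (i + 1)) (vv f a n) = c (vv f a i) (vv f a (n - 1)) := by
        have hn1 : n = (n - 1) + 1 := by omega
        conv_lhs => rw [hn1]
        rw [← vv_succ, ← vv_succ]
        exact hc.conj _ _ _ (hcm i (by omega) (n - 1) (by omega))
      have h2 : c (vv f a i) (vv f a (n - 1)) = c a (vv f a (n - 1 - i)) := by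
        rw [hval i (by omega) (n - 1) (by omega), if_pos (by omega)]
      rw [hn, (form_list hc (vv f a) w (fun k hk' => hcm (i + 1) hi k (hw k hk'))).2, h2] at h1
      rw [← h1]
      apply congrArg
      apply List.map_congr_left
      intro k hk'
      exact (hval (i + 1) hi k (hw k hk')).symm
  intro i hi j hj
  rw [hval i hi j hj]
  split_ifs
  · exact key _ (by omega)
  · rw [key _ (by omega), neg_zero]

end cyc

section index

variable {G : Type*} [Group G] [Finite G]

/-- one step of a chain -/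
theorem step {p : ℕ} (hp : p.Prime) {H : Subgroup G} {b : G} {k : ℕ} (hH : p ^ k ∣ Nat.card H) (hb : b ∉ H)
    (hn : ∀ x ∈ H, b * x * b⁻¹ ∈ H) (hbp : b ^ p ∈ H) : p ^ (k + 1) ∣ Nat.card ↥(H ⊔ zpowers b) := by
  set K := H ⊔ zpowers b with hK
  have hHK : H ≤ K := le_sup_left
  have hbK : b ∈ K := (le_sup_right : zpowers b ≤ K) (mem_zpowers b)
  have hnorm : K ≤ normalizer (H : Set G) := by
    rw [hK, sup_le_iff]
    refine ⟨le_normalizer, ?_⟩
    rw [zpowers_le]
    have h1 : (MulAut.conj b).toMonoidHom '' (H : Set G) ⊆ H := by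
      rintro _ ⟨c, hc, rfl⟩
      exact hn c hc
    have h2 : (MulAut.conj b).toMonoidHom '' (H : Set G) = H := by
      apply Set.Finite.eq_of_subset_of_encard_le (Set.toFinite _) h1
      rw [Function.Injective.encard_image]
      exact (MulAut.conj b).injective
    rw [mem_normalizer_iff]
    intro c
    refine ⟨fun hc => hn c hc, fun hc => ?_⟩
    have h3 : b * c * b⁻¹ ∈ (MulAut.conj b).toMonoidHom '' (H : Set G) := by rw [h2]; exact hc
    obtain ⟨d, hd, hdc⟩ := h3
    have h4 : b * d * b⁻¹ = b * c * b⁻¹ := hdc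
    have : d = c := by simpa using h4
    rwa [← this]
  haveI hN : (H.subgroupOf K).Normal := normal_subgroupOf_of_le_normalizer hnorm
  have h1 : p ∣ Nat.card (K ⧸ H.subgroupOf K) := by
    have h2 : orderOf (QuotientGroup.mk' (H.subgroupOf K) ⟨b, hbK⟩) = p := by
      haveI : Fact p.Prime := ⟨hp⟩
      apply orderOf_eq_prime
      · rw [← map_pow, QuotientGroup.mk'_apply, QuotientGroup.eq_one_iff, mem_subgroupOf]
        exact hbp
      · rw [QuotientGroup.mk'_apply, Ne, QuotientGroup.eq_one_iff, mem_subgroupOf]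
        exact hb
    rw [← h2]
    exact orderOf_dvd_natCard _
  have h3 := Subgroup.card_eq_card_quotient_mul_card_subgroup (H.subgroupOf K)
  have h4 : Nat.card (H.subgroupOf K) = Nat.card H :=
    Nat.card_congr (subgroupOfEquivOfLe hHK).toEquiv
  rw [h3, h4, pow_succ, mul_comm]
  exact mul_dvd_mul h1 hH

omit [Finite G] in
theorem not_dvd_index {p k : ℕ} {H : Subgroup G} (hp : p.Prime) (hH : p ^ k ∣ Nat.card H)
    (hG : ¬ p ^ (k + 1) ∣ Nat.card G) : ¬ p ∣ H.index := by
  intro h
  apply hG
  rw [← H.card_mul_index, pow_succ]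
  exact mul_dvd_mul hH h

omit [Finite G] in
theorem closure_image_lt_succ (v : ℕ → G) (k : ℕ) :
    closure (v '' {i | i < k + 1}) = closure (v '' {i | i < k}) ⊔ zpowers (v k) := by
  have h1 : v '' {i | i < k + 1} = v '' {i | i < k} ∪ {v k} := by
    rw [← Set.image_singleton (f := v) (a := k), ← Set.image_union]
    congr 1
    ext i
    simp only [Set.mem_ofPred_eq, Set.mem_union, Set.mem_singleton_iff]
    omega
  rw [h1, Subgroup.closure_union, zpowers_eq_closure]

/-- the order of the group generated by the `v i` -/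
theorem pow_dvd_cyc {p : ℕ} (hp : p.Prime) {Ω : Type*} [MulAction G Ω] {f a : G} {n : ℕ} (hap : a ^ p = 1)
    (hk : ∀ k < n, a * vv f a k = vv f a k * a) (x : Ω) (hx : ∀ i, i + 1 < n → vv f a i • x = x)
    (hx' : vv f a (n - 1) • x ≠ x) : p ^ n ∣ Nat.card (closure (vv f a '' {i | i < n})) := by
  have hcm := vv_comm hk
  have key : ∀ k ≤ n, p ^ k ∣ Nat.card (closure (vv f a '' {i | i < k})) := by
    intro k
    induction k with
    | zero => intro _; rw [pow_zero]; exact one_dvd _
    | succ k ih =>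
      intro hkn
      have h1 := ih (by omega)
      rw [closure_image_lt_succ]
      have hcomm : ∀ y ∈ closure (vv f a '' {i | i < k}), vv f a k * y = y * vv f a k := by
        intro y hy
        have h2 : closure (vv f a '' {i | i < k}) ≤ centralizer {vv f a k} := by
          rw [closure_le]
          rintro _ ⟨i, hi, rfl⟩
          rw [SetLike.mem_coe, mem_centralizer_singleton_iff]
          exact hcm _ (by simp at hi; omega) _ (by omega)
        exact (mem_centralizer_singleton_iff.1 (h2 hy)).symm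
      apply step hp h1
      · -- not in the previous group
        intro hmem
        have h2 : closure (vv f a '' {i | i < k}) ≤ MulAction.stabilizer G ((f ^ (n - 1 - k))⁻¹ • x) := by
          rw [closure_le]
          rintro _ ⟨i, hi, rfl⟩
          simp only [Set.mem_ofPred_eq] at hi
          rw [SetLike.mem_coe, MulAction.mem_stabilizer_iff]
          have h3 : vv f a i * (f ^ (n - 1 - k))⁻¹ = (f ^ (n - 1 - k))⁻¹ * vv f a (n - 1 - k + i) := by
            rw [← vv_conj]; group
          rw [← mul_smul, h3, mul_smul, hx _ (by omega)]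
        have h4 := MulAction.mem_stabilizer_iff.1 (h2 hmem)
        have h3 : vv f a k * (f ^ (n - 1 - k))⁻¹ = (f ^ (n - 1 - k))⁻¹ * vv f a (n - 1) := by
          have : n - 1 = (n - 1 - k) + k := by omega
          conv_rhs => rw [this]
          rw [← vv_conj, Nat.sub_add_cancel (by omega)]; group
        rw [← mul_smul, h3, mul_smul] at h4
        exact hx' (MulAction.injective _ h4)
      · intro y hy
        rw [hcomm y hy, mul_inv_cancel_right]; exact hy
      · have : vv f a k ^ p = 1 := by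
          unfold vv
          rw [conj_pow, hap, mul_one, mul_inv_cancel]
        rw [this]; exact one_mem _
  exact key n le_rfl

/-- adding two elements `b, b'` acting independently on `a` -/
theorem pow_dvd_two {p : ℕ} (hp : p.Prime) {E : Subgroup G} {k : ℕ} (hE : p ^ k ∣ Nat.card E) {a b b' : G}
    (ha : ∀ x ∈ E, a * x = x * a) (hb : ∀ x ∈ E, b * x * b⁻¹ ∈ E) (hb' : ∀ x ∈ E, b' * x * b'⁻¹ ∈ E)
    (hbp : b ^ p = 1) (hbp' : b' ^ p = 1) (hbb : b * b' = b' * b) (h1 : a * b ≠ b * a)
    (h2 : ∀ j < p, a * (b' * b ^ j) ≠ b' * b ^ j * a) :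
    p ^ (k + 2) ∣ Nat.card ↥(E ⊔ zpowers b ⊔ zpowers b') := by
  have hs1 : p ^ (k + 1) ∣ Nat.card ↥(E ⊔ zpowers b) := by
    apply step hp hE (fun h => h1 (ha b h)) hb
    rw [hbp]; exact one_mem _
  have hmem : ∀ x ∈ E ⊔ zpowers b, ∃ y ∈ E, ∃ j : ℤ, x = y * b ^ j := by
    have hpw : ∀ d ∈ zpowers b, ∀ x ∈ E, d * x * d⁻¹ ∈ E := by
      rw [zpowers_eq_closure]
      apply Cfsg.Agent.H49.Red.conj_mem_of_gen
      rintro _ rfl
      exact hb
    have hle : E ⊔ zpowers b ≤ Cfsg.Agent.H49.Red.mulSub E (zpowers b) hpw := by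
      rw [sup_le_iff]
      exact ⟨fun x hx => ⟨x, hx, 1, one_mem _, (mul_one x).symm⟩, fun x hx => ⟨1, one_mem _, x, hx, (one_mul x).symm⟩⟩
    intro x hx
    obtain ⟨y, hy, d, hd, rfl⟩ := hle hx
    obtain ⟨j, rfl⟩ := mem_zpowers_iff.1 hd
    exact ⟨y, hy, j, rfl⟩
  apply step hp hs1
  · intro h
    obtain ⟨y, hy, j, hj⟩ := hmem b' h
    -- `b' b ^ (-j) ∈ E`
    have h3 : b' * b ^ (-j) = y := by rw [hj, zpow_neg, mul_inv_cancel_right]
    have hpp : (0 : ℤ) < p := by exact_mod_cast hp.pos
    have h4 : b ^ (-j) = b ^ ((-j) % p).toNat := by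
      rw [← zpow_natCast, Int.toNat_of_nonneg (Int.emod_nonneg _ hpp.ne')]
      conv_lhs => rw [← Int.emod_add_mul_ediv (-j) p, zpow_add, zpow_mul, zpow_natCast, hbp, one_zpow, mul_one]
    rw [h4] at h3
    have h5 : ((-j) % p).toNat < p := by
      have := Int.emod_lt_of_pos (-j) hpp
      omega
    apply h2 _ h5
    rw [h3]
    exact ha y hy
  · intro x hx
    obtain ⟨y, hy, j, rfl⟩ := hmem x hx
    have h3 : b' * (y * b ^ j) * b'⁻¹ = (b' * y * b'⁻¹) * b ^ j := by
      have : Commute b' (b ^ j) := (show Commute b' b from hbb.symm).zpow_right j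
      calc b' * (y * b ^ j) * b'⁻¹ = b' * y * (b ^ j * b'⁻¹) := by group
        _ = b' * y * (b'⁻¹ * b ^ j) := by rw [(this.symm.inv_right).eq]
        _ = _ := by group
    rw [h3]
    exact mul_mem ((le_sup_left : E ≤ E ⊔ zpowers b) (hb' y hy))
      ((le_sup_right : zpowers b ≤ E ⊔ zpowers b) (zpow_mem (mem_zpowers b) j))
  · rw [hbp']; exact one_mem _

/-- the order of an extraspecial group -/
theorem pow_dvd_extra {p : ℕ} (hp : p.Prime) {x y : G} (hx : x ^ p = 1) (hy : y ^ p = 1)
    (hcx : ⁅x, y⁆ * x = x * ⁅x, y⁆) (hcy : ⁅x, y⁆ * y = y * ⁅x, y⁆) (hc : ⁅x, y⁆ ≠ 1) :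
    p ^ 3 ∣ Nat.card ↥(closure ({x, y} : Set G)) := by
  set c := ⁅x, y⁆ with hcdef
  have hxy : x * y = c * (y * x) := mul_comm_of_comm.1 rfl
  have hne : ¬ x * y = y * x := fun h => hc (commutatorElement_eq_one_iff_mul_comm.2 h)
  have hcp : c ^ p = 1 := by
    have h10 : y⁻¹ * x * y = c * x := by
      calc y⁻¹ * x * y = y⁻¹ * (x * y) := by group
        _ = y⁻¹ * (c * (y * x)) := by rw [← hxy]
        _ = y⁻¹ * (c * y) * x := by group
        _ = y⁻¹ * (y * c) * x := by rw [hcy]
        _ = c * x := by group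
    have h11 : y⁻¹ * x ^ p * y = c ^ p * x ^ p := by
      have h12 : (y⁻¹ * x * y) ^ p = y⁻¹ * x ^ p * y := by
        have := conj_pow (i := p) (a := y⁻¹) (b := x)
        rwa [inv_inv] at this
      rw [← h12, h10]
      exact (show Commute c x from hcx).mul_pow p
    rw [hx, mul_one, inv_mul_cancel, mul_one] at h11
    exact h11.symm
  have h0 : p ^ 1 ∣ Nat.card ↥(zpowers c) := by
    rw [Nat.card_zpowers, pow_one]
    haveI : Fact p.Prime := ⟨hp⟩
    rw [orderOf_eq_prime hcp hc]
  have h1 : p ^ 2 ∣ Nat.card ↥(zpowers c ⊔ zpowers x) := by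
    apply step hp h0
    · intro h
      obtain ⟨j, hj⟩ := mem_zpowers_iff.1 h
      apply hne
      rw [← hj]
      exact (show Commute c y from hcy).zpow_left j
    · intro z hz
      obtain ⟨j, rfl⟩ := mem_zpowers_iff.1 hz
      rw [((show Commute c x from hcx).zpow_left j).symm.eq, mul_inv_cancel_right]
      exact hz
    · rw [hx]; exact one_mem _
  have hcom : ∀ z ∈ zpowers c ⊔ zpowers x, z * x = x * z := by
    intro z hz
    have : zpowers c ⊔ zpowers x ≤ centralizer {x} := by
      rw [sup_le_iff, zpowers_le, zpowers_le, mem_centralizer_singleton_iff, mem_centralizer_singleton_iff]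
      exact ⟨hcx, rfl⟩
    exact mem_centralizer_singleton_iff.1 (this hz)
  have h2 : p ^ 3 ∣ Nat.card ↥(zpowers c ⊔ zpowers x ⊔ zpowers y) := by
    apply step hp h1
    · intro h
      exact hne (hcom y h).symm
    · intro z hz
      have h3 : zpowers c ⊔ zpowers x ≤ (zpowers c ⊔ zpowers x).comap (MulAut.conj y).toMonoidHom := by
        rw [sup_le_iff, zpowers_le, zpowers_le]
        constructor
        · show y * c * y⁻¹ ∈ zpowers c ⊔ zpowers x
          rw [← hcy, mul_inv_cancel_right]
          exact mem_sup_left (mem_zpowers c)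
        · show y * x * y⁻¹ ∈ zpowers c ⊔ zpowers x
          have : y * x * y⁻¹ = c⁻¹ * x := by
            rw [eq_inv_mul_iff_mul_eq, ← mul_assoc, ← hxy, mul_inv_cancel_right]
          rw [this]
          exact mul_mem (mem_sup_left (inv_mem (mem_zpowers c))) (mem_sup_right (mem_zpowers x))
      exact h3 hz
    · rw [hy]; exact one_mem _
  refine h2.trans (Subgroup.card_dvd_of_le ?_)
  have hX : x ∈ closure ({x, y} : Set G) := subset_closure (by simp)
  have hY : y ∈ closure ({x, y} : Set G) := subset_closure (by simp)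
  rw [sup_le_iff, sup_le_iff, zpowers_le, zpowers_le, zpowers_le]
  refine ⟨⟨?_, hX⟩, hY⟩
  rw [hcdef, commutatorElement_def]
  exact mul_mem (mul_mem (mul_mem hX hY) (inv_mem hX)) (inv_mem hY)

end index

end Cfsg.Agent.H49.Form
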