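import Mathlib
import Cfsg.Agent.S0397
import Cfsg.Agent.S0398
import Cfsg.Agent.S0399
import Cfsg.Agent.H49.Form
import Cfsg.Prelude.Def_Spor_Conway

/-!
# The projection of `Co0` onto `Co1` (helper49)
-/

set_option autoImplicit false
set_option maxRecDepth 20000

namespace Cfsg.Agent.H49.CoOnePr

open Cfsg Subgroup Cfsg.Agent.H49.Form

/-- the projection -/
noncomputable def pr : Co0 →* Spor.Co1 := QuotientGroup.mk' (Subgroup.center Co0)

theorem ker_pr : pr.ker = Subgroup.center Co0 := QuotientGroup.ker_mk' _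

theorem pr_surjective : Function.Surjective pr := QuotientGroup.mk'_surjective _

theorem card_ker : Nat.card pr.ker = 2 := by rw [ker_pr]; exact Cfsg.Agent.S0398.result

theorem card_co1 : Nat.card Spor.Co1 = 4157776806543360000 := Cfsg.Agent.S0399.result.2

theorem finite_co1 : Finite Spor.Co1 := Nat.finite_of_card_ne_zero (by rw [card_co1]; norm_num)

theorem finite_co0 : Finite Co0 := by
  apply Nat.finite_of_card_ne_zero
  rw [Cfsg.Agent.S0397.result]
  norm_num

theorem dvd_map {p k : ℕ} (hp : p.Prime) (h2 : p ≠ 2) {H : Subgroup Co0} (hH : p ^ k ∣ Nat.card H) :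
    p ^ k ∣ Nat.card (H.map pr) := by
  have h1 : Nat.card (pr.ker.subgroupOf H) ∣ 2 := by
    rw [← card_ker]
    exact Subgroup.card_dvd_of_injective (f := (⟨⟨fun x => (⟨x.1.1, x.2⟩ : pr.ker), rfl⟩, fun _ _ => rfl⟩ :
      pr.ker.subgroupOf H →* pr.ker)) (fun x y hxy => Subtype.ext (Subtype.ext
        (congrArg (fun z : pr.ker => (z : Co0)) hxy)))
  have h3 := (pr.ker.subgroupOf H).card_mul_index
  have h4 : (pr.ker.subgroupOf H).index = Nat.card (H.map pr) := relIndex_ker (K := H) pr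
  rw [h4] at h3
  have h5 : p ^ k ∣ Nat.card (pr.ker.subgroupOf H) * Nat.card (H.map pr) := by rw [h3]; exact hH
  refine (Nat.Coprime.dvd_of_dvd_mul_left ?_ h5)
  exact Nat.Coprime.coprime_dvd_right h1 (Nat.Coprime.pow_left k ((Nat.coprime_primes hp Nat.prime_two).2 h2))

theorem not_dvd_index {p k : ℕ} (hp : p.Prime) (h2 : p ≠ 2) {H : Subgroup Co0} (hH : p ^ k ∣ Nat.card H)
    {K : Subgroup Spor.Co1} (hK : H.map pr ≤ K) (hc : ¬ p ^ (k + 1) ∣ 4157776806543360000) : ¬ p ∣ K.index := by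
  haveI := finite_co1
  apply Form.not_dvd_index hp ((dvd_map hp h2 hH).trans (Subgroup.card_dvd_of_le hK))
  rw [card_co1]; exact hc

end Cfsg.Agent.H49.CoOnePr
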