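import Mathlib
import Cfsg.Agent.H49.Form

/-!
# The prime `p`, Sylow subgroup `p^n : p^(1+2)`; Sylow subgroup `p^n : p` with a scalar (helper49)

* `noCov_heis` : `A = ⟨f ^ i a f ^ (-i)⟩` elementary abelian without `f`-invariant alternating form, `t` inverts `A` and
  commutes with `f`, `b₁`, `b₂`, `s`; `⟨b₁, b₂⟩` of class two normalises `A`; `s` inverts `b₁`, `b₂` modulo `[b₁, b₂]`.
* `noCov_scalar` : `t` acts as the scalar `l` on the commutative group `⟨a i⟩`, `l ^ 2 ≠ 1`, and commutes with `b`.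
-/

set_option autoImplicit false
set_option linter.style.haveILetI false
set_option linter.unusedVariables false

namespace Cfsg.Agent.H49.Heis

open Subgroup Cfsg.Agent.H51.Mult Cfsg.Agent.H51.Crit Cfsg.Agent.H49.Form
open scoped commutatorElement

universe v

variable {G : Type v} [Group G] [Finite G]

theorem noCov_heis {p : ℕ} (hp : p.Prime) (hp2 : p ≠ 2) {a f t b b' s : G} {n : ℕ} {w : List ℕ}
    (hw : ∀ k ∈ w, k < n) (hap : a ^ p = 1) (hk : ∀ k < n, a * vv f a k = vv f a k * a)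
    (hn : vv f a n = (w.map (vv f a)).prod)
    (htt : t * t = 1) (hta : t * a * t⁻¹ = a⁻¹) (htf : t * f = f * t) (htb : t * b = b * t) (htb' : t * b' = b' * t)
    (hbE : ∀ k < n, b * vv f a k * b⁻¹ ∈ closure (vv f a '' {i | i < n}))
    (hbE' : ∀ k < n, b' * vv f a k * b'⁻¹ ∈ closure (vv f a '' {i | i < n}))
    (hc1 : ⁅b, b'⁆ * b = b * ⁅b, b'⁆) (hc2 : ⁅b, b'⁆ * b' = b' * ⁅b, b'⁆) (hne : ⁅b, b'⁆ ≠ 1) (hbp : b ^ p = 1)
    {i j : ℤ} (hs1 : s * b * s⁻¹ = b⁻¹ * ⁅b, b'⁆ ^ i) (hs2 : s * b' * s⁻¹ = b'⁻¹ * ⁅b, b'⁆ ^ j)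
    (hD : ∀ D : ℕ → ZMod p, D 0 = 0 → (∀ i, i + 1 < n →
      (w.map fun k => if i + 1 ≤ k then D (k - (i + 1)) else - D (i + 1 - k)).sum = D (n - 1 - i)) →
      ∀ k < n, D k = 0)
    (hidx : ¬ p ∣ (closure (vv f a '' {i | i < n} ∪ {b, b'})).index) : NoCov p G := by
  have hcm := vv_comm hk
  intro L _ _ π h hc
  obtain ⟨c, hform, hlift⟩ := exists_form h hp hc
  have hzero := cyc hform hk w hw hn hD
  obtain ⟨β, hβ⟩ := h.surj b
  obtain ⟨β', hβ'⟩ := h.surj b'
  obtain ⟨γ, hγ⟩ := h.surj s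
  have hp3 : 2 < p := lt_of_le_of_ne hp.two_le (Ne.symm hp2)
  have hp2' : ¬ p ∣ 2 := fun hd => absurd (Nat.le_of_dvd (by norm_num) hd) (by omega)
  have hr : Set.range (fun i : Fin n => vv f a i) = vv f a '' {i | i < n} := by
    ext x
    constructor
    · rintro ⟨i, rfl⟩; exact ⟨i, i.2, rfl⟩
    · rintro ⟨i, hi, rfl⟩; exact ⟨⟨i, hi⟩, rfl⟩
  have hr2 : Set.range (fun j : Bool => if j then b else b') = {b, b'} := by
    ext x
    constructor
    · rintro ⟨(_ | _), rfl⟩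
      · exact Or.inr rfl
      · exact Or.inl rfl
    · rintro (rfl | rfl)
      · exact ⟨true, rfl⟩
      · exact ⟨false, rfl⟩
  have hle := Cfsg.Agent.H49.Red.ker_le h hp hc (t := t) (m := 2) (by rw [pow_two]; exact htt)
    hp2' (l := -1) (by
      intro hd
      have h2 : (p : ℤ) ∣ 2 := by
        have := (dvd_neg).2 hd
        norm_num at this
        exact this
      exact hp2' (by exact_mod_cast h2)) (fun i : Fin n => vv f a i) (fun j : Bool => if j then b else b')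
    (by
      intro i
      have h1 : t * f ^ (i : ℕ) = f ^ (i : ℕ) * t := (show Commute t f from htf).pow_right _
      have h2 : (f ^ (i : ℕ))⁻¹ * t⁻¹ = t⁻¹ * (f ^ (i : ℕ))⁻¹ := by rw [← mul_inv_rev, h1, mul_inv_rev]
      show t * (f ^ (i : ℕ) * a * (f ^ (i : ℕ))⁻¹) * t⁻¹ = (f ^ (i : ℕ) * a * (f ^ (i : ℕ))⁻¹) ^ (-1 : ℤ)
      calc t * (f ^ (i : ℕ) * a * (f ^ (i : ℕ))⁻¹) * t⁻¹
          = (t * f ^ (i : ℕ)) * a * ((f ^ (i : ℕ))⁻¹ * t⁻¹) := by group
        _ = (f ^ (i : ℕ) * t) * a * (t⁻¹ * (f ^ (i : ℕ))⁻¹) := by rw [h1, h2]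
        _ = f ^ (i : ℕ) * (t * a * t⁻¹) * (f ^ (i : ℕ))⁻¹ := by group
        _ = _ := by rw [hta]; group)
    (by
      intro i
      show (f ^ (i : ℕ) * a * (f ^ (i : ℕ))⁻¹) ^ p = 1
      rw [conj_pow, hap, mul_one, mul_inv_cancel])
    (by
      rintro (_ | _)
      · exact htb'
      · exact htb)
    (by
      rw [hr]
      rintro (_ | _) i
      · exact hbE' i i.2
      · exact hbE i i.2)
    (by
      intro x y i j hx hy
      apply hlift
      · rw [hx, hy]; exact hcm i i.2 j j.2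
      · rw [hx, hy]; exact hzero i i.2 j j.2)
    (by rw [hr, hr2]; exact hidx)
    (fun j : Bool => if j then β else β')
    (by
      rintro (_ | _)
      · exact hβ'
      · exact hβ)
  have hrange : Set.range (fun j : Bool => if j then β else β') = {β, β'} := by
    ext x
    constructor
    · rintro ⟨(_ | _), rfl⟩
      · exact Or.inr rfl
      · exact Or.inl rfl
    · rintro (rfl | rfl)
      · exact ⟨true, rfl⟩
      · exact ⟨false, rfl⟩
  rw [hrange] at hle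
  exact Cfsg.Agent.H49.Red.extra_false h hp hp2 hc (α := β) (β := β') (γ := γ) (by rw [hβ, hβ']; exact hc1)
    (by rw [hβ, hβ']; exact hc2) (by rw [hβ, hβ']; exact hne) (by rw [hβ]; exact hbp) (i := i) (j := j)
    (by rw [hβ, hβ', hγ]; exact hs1) (by rw [hβ, hβ', hγ]; exact hs2) hle

theorem noCov_scalar {p : ℕ} (hp : p.Prime) {ι : Type*} (a : ι → G) {b t : G} {m : ℕ} (ht : t ^ m = 1) (hm : ¬ p ∣ m)
    {l : ℤ} (hl : ¬ (p : ℤ) ∣ l - 1) (hl2 : ¬ (p : ℤ) ∣ l * l - 1) (ha : ∀ i, t * a i * t⁻¹ = a i ^ l)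
    (hap : ∀ i, a i ^ p = 1) (haa : ∀ i j, a i * a j = a j * a i) (hb : t * b = b * t)
    (hba : ∀ i, b * a i * b⁻¹ ∈ closure (Set.range a))
    (hidx : ¬ p ∣ (closure (Set.range a ∪ {b})).index) : NoCov p G := by
  intro L _ _ π h hc
  obtain ⟨β, hβ⟩ := h.surj b
  have hr : Set.range (fun _ : Unit => b) = {b} := Set.range_const
  exact Cfsg.Agent.H49.Red.one_false h hp hc (β := fun _ : Unit => β)
    (Cfsg.Agent.H49.Red.ker_le h hp hc ht hm hl a (fun _ : Unit => b) ha hap (fun _ => hb) (fun _ => hba)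
      (fun x y i j hx hy => Cfsg.Agent.H49.Red.comm_of_sq h hp hc (t := t) hl2 (by rw [hx, hy]; exact haa i j)
        (by rw [hx]; exact ha i) (by rw [hy]; exact ha j))
      (by rw [hr]; exact hidx) _ (fun _ => hβ))

end Cfsg.Agent.H49.Heis
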