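import Mathlib
import Cfsg.Agent.H49.MatSeven
import Cfsg.Agent.H49.CoOnePr
import Cfsg.Agent.H49.Stab
import Cfsg.Agent.H51.Crit

/-!
# The 7-part of the Schur multiplier of `Co1` (helper49)

Two commuting elements `x`, `y` of order 7; `t` of order 3 maps `x` to `x²` and commutes with `y`.
The matrices are the ones of `BpSevenCo.Data`.
-/

set_option autoImplicit false
set_option maxRecDepth 20000

namespace Cfsg.Agent.H49.CoOneSeven

open Cfsg Cfsg.Agent.LThreeCo1.Ev Subgroup Cfsg.Agent.H51.Mult Cfsg.Agent.H49.CoOnePr Cfsg.Agent.H49.MatSeven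
open Cfsg.Agent.H49.Form Cfsg.Agent.H49.Stab

universe v

/-- Sylow subgroup of order `p²`, an element acting as a scalar on one factor and trivially on the other one -/
theorem noCov_scalar_one {G : Type v} [Group G] [Finite G] {p : ℕ} (hp : p.Prime) {x y t : G} (hx : x ^ p = 1)
    (hy : y ^ p = 1) (hx1 : x ≠ 1) (hy1 : y ≠ 1) (hxy : x * y = y * x) {l : ℕ} (htx : t * x * t⁻¹ = x ^ l)
    (hty : t * y * t⁻¹ = y) (hl : ¬ (p : ℤ) ∣ l - 1) (hc : ¬ p ^ 3 ∣ Nat.card G) : NoCov p G := by
  refine Cfsg.Agent.H51.Crit.noCov_sq hp (x := x) (y := y) (g := t) hx hxy ?_ (a := l) (b := 0) (c := 0) (d := 1)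
    (by rw [htx, zpow_zero, mul_one, zpow_natCast]) (by rw [hty, zpow_zero, one_mul, zpow_one])
    (by rw [mul_one, zero_mul, sub_zero]; exact hl)
  haveI : Fact p.Prime := ⟨hp⟩
  have hle : zpowers x ⊔ zpowers y = closure {x, y} := by
    rw [zpowers_eq_closure, zpowers_eq_closure, ← Subgroup.closure_union]; rfl
  rw [← hle]
  apply Form.not_dvd_index hp (k := 2) _ hc
  have hox : orderOf x = p := orderOf_eq_prime hx hx1
  refine step hp (k := 1) (by rw [pow_one, Nat.card_zpowers, hox]) ?_ ?_ (by rw [hy]; exact one_mem _)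
  · rintro ⟨j, hj⟩
    have h1 : t * x ^ j * t⁻¹ = (x ^ j) ^ (l : ℤ) := by
      rw [← conj_zpow, htx, ← zpow_natCast, ← zpow_mul, ← zpow_mul, mul_comm]
    have hj' : x ^ j = y := hj
    rw [hj', hty] at h1
    have h2 : y ^ ((l : ℤ) - 1) = 1 := by rw [zpow_sub, ← h1, zpow_one, mul_inv_cancel]
    have hoy : orderOf y = p := orderOf_eq_prime hy hy1
    have h3 := orderOf_dvd_iff_zpow_eq_one.2 h2
    rw [hoy] at h3
    exact hl h3
  · rintro _ ⟨j, rfl⟩
    have : y * x ^ j * y⁻¹ = x ^ j := by
      have h2 : Commute y (x ^ j) := (show Commute x y from hxy).symm.zpow_right j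
      rw [h2.eq, mul_inv_cancel_right]
    simp only [this]
    exact ⟨j, rfl⟩

theorem c1 : eqB (xM M) (List.replicate 7 1) [] = true := by decide +kernel
theorem c2 : eqB (xM M) (List.replicate 7 2) [] = true := by decide +kernel
theorem c3 : eqB (xM M) [1, 2] [2, 1] = true := by decide +kernel
theorem c4 : eqB (xM M) [3, 1] [1, 1, 3] = true := by decide +kernel
theorem c5 : eqB (xM M) [3, 2] [2, 3] = true := by decide +kernel
theorem c6 : neB' (xM M) [1] [] = true := by decide +kernel
theorem c7 : neB' (xM M) [2] [] = true := by decide +kernel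

/-- the elements -/
noncomputable abbrev e (i : ℕ) : Co0 := xe okM i

theorem W {w w' : List ℕ} (h : eqB (xM M) w w' = true) : (w.map e).prod = (w'.map e).prod :=
  eq_of_eqB (xrep okM) h

theorem N {w w' : List ℕ} (h : neB' (xM M) w w' = true) : (w.map e).prod ≠ (w'.map e).prod :=
  ne_of_neB' (xrep okM) h

theorem pr_ne_one {x : Co0} (h : x ^ 7 = 1) (h1 : x ≠ 1) : pr x ≠ 1 := by
  intro h0
  have h2 := Subgroup.orderOf_dvd_natCard pr.ker (x := x) h0
  rw [card_ker] at h2
  have h3 : orderOf x ∣ 7 := orderOf_dvd_of_pow_eq_one h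
  have h4 : orderOf x ∣ 1 := Nat.dvd_gcd h2 h3
  exact h1 (orderOf_eq_one_iff.1 (Nat.dvd_one.1 h4))

theorem noCov : NoCov 7 Spor.Co1 := by
  haveI := finite_co1
  have h1 : e 1 ^ 7 = 1 := by
    have := W c1
    rwa [List.map_replicate, List.prod_replicate] at this
  have h2 : e 2 ^ 7 = 1 := by
    have := W c2
    rwa [List.map_replicate, List.prod_replicate] at this
  have h3 : e 1 * e 2 = e 2 * e 1 := by
    have := W c3
    simpa only [List.map_cons, List.map_nil, List.prod_cons, List.prod_nil, mul_one] using this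
  have h4 : e 3 * e 1 = e 1 * (e 1 * e 3) := by
    have := W c4
    simpa only [List.map_cons, List.map_nil, List.prod_cons, List.prod_nil, mul_one] using this
  have h5 : e 3 * e 2 = e 2 * e 3 := by
    have := W c5
    simpa only [List.map_cons, List.map_nil, List.prod_cons, List.prod_nil, mul_one] using this
  have h6 : e 1 ≠ 1 := by
    have := N c6
    simpa only [List.map_cons, List.map_nil, List.prod_cons, List.prod_nil, mul_one] using this
  have h7 : e 2 ≠ 1 := by
    have := N c7
    simpa only [List.map_cons, List.map_nil, List.prod_cons, List.prod_nil, mul_one] using this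
  refine noCov_scalar_one (by norm_num) (x := pr (e 1)) (y := pr (e 2)) (t := pr (e 3)) ?_ ?_ (pr_ne_one h1 h6)
    (pr_ne_one h2 h7) ?_ (l := 2) ?_ ?_ (by norm_num) (by rw [card_co1]; norm_num)
  · rw [← map_pow, h1, map_one]
  · rw [← map_pow, h2, map_one]
  · rw [← map_mul, h3, map_mul]
  · rw [← map_mul, h4, map_mul, map_mul, pow_two]
    group
  · rw [← map_mul, h5, map_mul, mul_inv_cancel_right]

end Cfsg.Agent.H49.CoOneSeven
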