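import Mathlib
import Cfsg.Agent.H49.Stab
import Cfsg.Agent.H49.MatCo3

/-!
# The 3-part of the Schur multiplier of `Co3` (helper49)

Sylow 3-subgroup `3^5 : 3^2` in `3^5 : (2 × M11)`; an element of order 11 acts on `3^5` without invariant alternating
form, the central involution inverts `3^5`, an involution of `M11` exchanges two generators of `3^2`.
-/

set_option autoImplicit false
set_option maxRecDepth 20000

namespace Cfsg.Agent.H49.CoThreeThree

open Cfsg Cfsg.Agent.SporadicA Cfsg.Agent.SporadicStructure.Co0Matrix Cfsg.Agent.CoOneType.CoEval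
open Cfsg.Agent.CoOneType.CoFast Cfsg.Agent.LThreeCo1.Ev Cfsg.Agent.H51.Mult
open Cfsg.Agent.H49.Stab Cfsg.Agent.H49.MatCo3

/-- the coordinates of `leechV` -/
def vL : List ℤ := [-1, -1, -1, -1, -1, -1, -1, -1, -1, -1, -1, -1, -1, -1, -1, -1, -1, -1, -1, -1, -1, -1, -1, -5]

theorem vecV_eq : ((Spor.leechV : leechLattice) : GolayPt → ℤ) = vec vL := by
  show Spor.vecV = vec vL
  funext p
  revert p
  decide +kernel

theorem k_fix : (apZ R1 vL = vL ∧ apZ R2 vL = vL ∧ apZ R3 vL = vL) ∧ apZ R4 vL = vL ∧ apZ R5 vL = vL := by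
  decide +kernel

theorem fix (i : ℕ) : (el okM i).1 Spor.leechV = Spor.leechV := by
  apply Subtype.ext
  refine (Rep.apply (rep_mk (okM i)) (l := vL) (by decide) vecV_eq).trans ?_
  rw [← apZ_eq, vecV_eq]
  congr 1
  obtain ⟨⟨h1, h2, h3⟩, h4, h5⟩ := k_fix
  unfold M
  split <;> assumption

/-- word of `f^5 v f^-5` -/
def w : List ℕ := [0, 1, 2, 2, 3]

/-- action of `b` -/
def bw (k : ℕ) : List ℕ := [[2, 2, 3, 3, 4, 4], [0, 1, 2], [0, 0, 1, 1, 4, 4], [0, 0, 1, 1, 2, 2, 4], [0, 0, 2, 2, 4]].getD k []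

/-- action of `s b s⁻¹` -/
def bw' (k : ℕ) : List ℕ := [[0, 0, 1, 1, 2, 3], [0, 0, 2, 2, 3], [0, 0, 1, 3, 3], [0, 2, 4, 4], [1, 1]].getD k []

/-- a vector fixed by four generators of `3^5` -/
def xL : List ℤ := [-2, 2, 2, -2, 0, 0, -2, -2, -2, 0, -2, -2, 0, -2, -2, -2, -2, 0, 0, -2, 0, 2, 0, -6]

theorem chk : Chk M 5 w bw bw' 0 xL where
  hn := by decide
  hka := by decide
  hw := by decide
  hbw := by decide
  hbw' := by decide
  c1 := by decide +kernel
  c2 := by decide +kernel
  c3 := by decide +kernel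
  c4 := by decide +kernel
  c5 := by decide +kernel
  c6 := by decide +kernel
  c7 := by decide +kernel
  c8 := by decide +kernel
  c9 := by decide +kernel
  c10 := by decide +kernel
  c11 := by decide +kernel
  c12 := by decide +kernel
  c13 := by decide +kernel
  c14 := by decide +kernel
  c15 := by decide +kernel
  xlen := by decide
  xmem := by decide +kernel
  c16 := by
    have h : ∀ i < 4, foldZ (xM M) (wv i) xL = xL := by decide +kernel
    intro i hi
    exact h i (by omega)
  c17 := by decide +kernel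

theorem noForm (D : ℕ → ZMod 3) (h0 : D 0 = 0) (h : ∀ i, i + 1 < 5 →
      (w.map fun k => if i + 1 ≤ k then D (k - (i + 1)) else - D (i + 1 - k)).sum = D (5 - 1 - i)) :
      ∀ k < 5, D k = 0 := by
  have h1 := h 0 (by norm_num)
  have h2 := h 1 (by norm_num)
  have h3 := h 2 (by norm_num)
  have h4 := h 3 (by norm_num)
  simp [w, h0] at h1 h2 h3 h4
  have : D 1 = 0 ∧ D 2 = 0 ∧ D 3 = 0 ∧ D 4 = 0 := by
    generalize D 1 = d1 at *
    generalize D 2 = d2 at *
    generalize D 3 = d3 at *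
    generalize D 4 = d4 at *
    clear h
    revert d1 d2 d3 d4
    decide
  intro k hk
  obtain ⟨a1, a2, a3, a4⟩ := this
  interval_cases k <;> assumption

theorem noCov [Finite Spor.Co3] (hcard : ¬ 3 ^ 8 ∣ Nat.card Spor.Co3) : NoCov 3 Spor.Co3 := by
  have : Finite (St Spor.leechV) := (inferInstance : Finite Spor.Co3)
  exact noCov_three okM fix chk noForm hcard

end Cfsg.Agent.H49.CoThreeThree
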