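import Cfsg.Agent.LThreeCo1.Ev

/-!
# Elements of the McLaughlin group generating `5^(1+2)`, and an involution (helper49)

Generated by a script; checked by the kernel.
-/

set_option autoImplicit false
set_option maxRecDepth 20000

namespace Cfsg.Agent.H49.MatMcL

open Cfsg.Agent.LThreeCo1.Ev Cfsg.Agent.SporadicStructure.Co0Matrix Cfsg.Agent.CoOneType.CoEval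

/-- matrix (times 8) -/
def R1 : List (List ℤ) := [
  [6, -2, -2, 0, 0, 0, 0, 0, 0, -2, -2, 0, 0, 0, 0, -2, 0, 0, 0, 0, 2, 0, 0, 2],
  [0, 0, 0, 2, 2, -2, 2, -2, -2, 0, 0, 2, -2, 2, 2, 0, -2, 2, -2, 2, 0, 2, 2, 0],
  [-2, -2, 6, 0, 0, 0, 0, 0, 0, -2, -2, 0, 0, 0, 0, -2, 0, 0, 0, 0, 2, 0, 0, 2],
  [0, 0, 0, -2, 2, 2, -2, -2, 2, 0, 0, 2, 2, -2, 2, 0, 2, 2, -2, -2, 0, 2, 2, 0],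
  [0, 0, 0, 2, 2, 2, 2, 2, -2, 0, 0, -2, 2, 2, 2, 0, 2, -2, -2, -2, 0, 2, -2, 0],
  [0, 0, 0, 2, -2, 2, 2, 2, 2, 0, 0, 2, -2, -2, 2, 0, -2, -2, 2, -2, 0, 2, 2, 0],
  [0, 0, 0, -2, 2, -2, 2, 2, 2, 0, 0, 2, -2, 2, -2, 0, 2, 2, 2, -2, 0, 2, -2, 0],
  [0, 0, 0, 2, 2, -2, 2, 2, 2, 0, 0, 2, 2, -2, -2, 0, 2, -2, -2, 2, 0, -2, 2, 0],
  [0, 0, 0, 2, 2, -2, -2, 2, 2, 0, 0, -2, 2, 2, 2, 0, -2, 2, 2, -2, 0, -2, 2, 0],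
  [-2, -2, -2, 0, 0, 0, 0, 0, 0, -2, -2, 0, 0, 0, 0, 6, 0, 0, 0, 0, 2, 0, 0, 2],
  [0, 0, 0, 2, 2, 2, -2, -2, 2, 0, 0, 2, -2, 2, 2, 0, 2, -2, 2, 2, 0, -2, -2, 0],
  [-2, 6, -2, 0, 0, 0, 0, 0, 0, -2, -2, 0, 0, 0, 0, -2, 0, 0, 0, 0, 2, 0, 0, 2],
  [0, 0, 0, -2, 2, 2, 2, -2, 2, 0, 0, -2, 2, 2, -2, 0, -2, -2, 2, 2, 0, 2, 2, 0],
  [0, 0, 0, -2, -2, 2, 2, 2, 2, 0, 0, 2, 2, 2, 2, 0, -2, 2, -2, 2, 0, -2, -2, 0],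
  [0, 0, 0, -2, -2, -2, -2, 2, -2, 0, 0, 2, 2, 2, 2, 0, 2, -2, 2, 2, 0, 2, 2, 0],
  [0, 0, 0, -2, 2, 2, 2, 2, -2, 0, 0, -2, -2, -2, 2, 0, 2, 2, 2, 2, 0, -2, 2, 0],
  [-2, -2, -2, 0, 0, 0, 0, 0, 0, 6, -2, 0, 0, 0, 0, -2, 0, 0, 0, 0, 2, 0, 0, 2],
  [2, 2, 2, 0, 0, 0, 0, 0, 0, 2, 2, 0, 0, 0, 0, 2, 0, 0, 0, 0, 6, 0, 0, -2],
  [0, 0, 0, 2, -2, -2, 2, -2, 2, 0, 0, -2, 2, -2, 2, 0, 2, 2, 2, 2, 0, 2, -2, 0],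
  [-2, -2, -2, 0, 0, 0, 0, 0, 0, -2, 6, 0, 0, 0, 0, -2, 0, 0, 0, 0, 2, 0, 0, 2],
  [0, 0, 0, 2, -2, 2, 2, -2, -2, 0, 0, 2, 2, 2, -2, 0, 2, 2, 2, -2, 0, -2, 2, 0],
  [0, 0, 0, 2, -2, 2, -2, 2, 2, 0, 0, -2, -2, 2, -2, 0, 2, 2, -2, 2, 0, 2, 2, 0],
  [0, 0, 0, 2, 2, 2, -2, 2, -2, 0, 0, 2, 2, -2, -2, 0, -2, 2, 2, 2, 0, 2, -2, 0],
  [2, 2, 2, 0, 0, 0, 0, 0, 0, 2, 2, 0, 0, 0, 0, 2, 0, 0, 0, 0, -2, 0, 0, 6]]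

theorem ok1 : Ok R1 (tr R1) := Cfsg.Agent.CoOneType.CoFast.ok_of_okZ (by decide +kernel)

/-- matrix (times 8) -/
def R2 : List (List ℤ) := [
  [6, 0, 0, 0, -2, -2, 0, 0, 0, -2, 0, 0, 0, 0, -2, 0, -2, 0, 0, 0, 2, 0, 0, 2],
  [-2, 0, 0, 0, 6, -2, 0, 0, 0, -2, 0, 0, 0, 0, -2, 0, -2, 0, 0, 0, 2, 0, 0, 2],
  [0, 2, 2, 2, 0, 0, 2, -2, -2, 0, -2, 2, 2, -2, 0, -2, 0, -2, 2, 2, 0, 2, 2, 0],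
  [-2, 0, 0, 0, -2, 6, 0, 0, 0, -2, 0, 0, 0, 0, -2, 0, -2, 0, 0, 0, 2, 0, 0, 2],
  [-2, 0, 0, 0, -2, -2, 0, 0, 0, -2, 0, 0, 0, 0, -2, 0, 6, 0, 0, 0, 2, 0, 0, 2],
  [0, -2, -2, 2, 0, 0, -2, 2, 2, 0, 2, -2, 2, -2, 0, 2, 0, -2, 2, 2, 0, 2, 2, 0],
  [0, 2, -2, -2, 0, 0, 2, 2, 2, 0, 2, 2, 2, 2, 0, -2, 0, -2, 2, -2, 0, -2, 2, 0],
  [0, 2, 2, 2, 0, 0, 2, 2, -2, 0, 2, -2, 2, 2, 0, 2, 0, -2, -2, -2, 0, 2, -2, 0],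
  [0, 2, 2, -2, 0, 0, -2, 2, 2, 0, -2, -2, 2, 2, 0, -2, 0, 2, 2, 2, 0, 2, -2, 0],
  [0, 2, -2, 2, 0, 0, -2, 2, -2, 0, -2, 2, 2, 2, 0, 2, 0, 2, -2, 2, 0, -2, 2, 0],
  [0, 2, -2, 2, 0, 0, 2, 2, 2, 0, 2, 2, -2, -2, 0, -2, 0, 2, -2, 2, 0, 2, -2, 0],
  [-2, 0, 0, 0, -2, -2, 0, 0, 0, -2, 0, 0, 0, 0, 6, 0, -2, 0, 0, 0, 2, 0, 0, 2],
  [0, 2, -2, 2, 0, 0, 2, -2, 2, 0, -2, -2, -2, 2, 0, 2, 0, 2, 2, -2, 0, 2, 2, 0],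
  [0, -2, -2, -2, 0, 0, 2, -2, -2, 0, 2, 2, 2, 2, 0, 2, 0, 2, 2, 2, 0, 2, -2, 0],
  [0, -2, 2, -2, 0, 0, 2, 2, 2, 0, -2, 2, -2, 2, 0, 2, 0, -2, -2, 2, 0, 2, 2, 0],
  [0, 2, 2, 2, 0, 0, -2, -2, 2, 0, 2, 2, -2, 2, 0, 2, 0, -2, 2, 2, 0, -2, -2, 0],
  [0, 2, 2, -2, 0, 0, 2, 2, -2, 0, 2, -2, -2, -2, 0, 2, 0, 2, 2, 2, 0, -2, 2, 0],
  [0, -2, 2, 2, 0, 0, 2, 2, 2, 0, -2, 2, 2, -2, 0, 2, 0, 2, 2, -2, 0, -2, -2, 0],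
  [0, -2, 2, 2, 0, 0, 2, -2, 2, 0, 2, -2, 2, 2, 0, -2, 0, 2, -2, 2, 0, -2, 2, 0],
  [-2, 0, 0, 0, -2, -2, 0, 0, 0, 6, 0, 0, 0, 0, -2, 0, -2, 0, 0, 0, 2, 0, 0, 2],
  [2, 0, 0, 0, 2, 2, 0, 0, 0, 2, 0, 0, 0, 0, 2, 0, 2, 0, 0, 0, 6, 0, 0, -2],
  [0, -2, 2, 2, 0, 0, -2, 2, -2, 0, 2, 2, -2, 2, 0, -2, 0, 2, 2, -2, 0, 2, 2, 0],
  [0, 2, 2, -2, 0, 0, -2, -2, 2, 0, 2, 2, 2, -2, 0, 2, 0, 2, -2, -2, 0, 2, 2, 0],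
  [2, 0, 0, 0, 2, 2, 0, 0, 0, 2, 0, 0, 0, 0, 2, 0, 2, 0, 0, 0, -2, 0, 0, 6]]

theorem ok2 : Ok R2 (tr R2) := Cfsg.Agent.CoOneType.CoFast.ok_of_okZ (by decide +kernel)

/-- matrix (times 8) -/
def R3 : List (List ℤ) := [
  [6, -2, -2, 0, 0, 0, 0, 0, 0, -2, -2, 0, 0, 0, 0, -2, 0, 0, 0, 0, 2, 0, 0, 2],
  [-2, 6, -2, 0, 0, 0, 0, 0, 0, -2, -2, 0, 0, 0, 0, -2, 0, 0, 0, 0, 2, 0, 0, 2],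
  [-2, -2, 6, 0, 0, 0, 0, 0, 0, -2, -2, 0, 0, 0, 0, -2, 0, 0, 0, 0, 2, 0, 0, 2],
  [0, 0, 0, 2, 2, 2, -2, 2, -2, 0, 0, 2, 2, -2, -2, 0, -2, 2, 2, 2, 0, 2, -2, 0],
  [0, 0, 0, 2, 2, -2, 2, 2, 2, 0, 0, 2, 2, -2, -2, 0, 2, -2, -2, 2, 0, -2, 2, 0],
  [0, 0, 0, 2, -2, 2, -2, 2, 2, 0, 0, -2, -2, 2, -2, 0, 2, 2, -2, 2, 0, 2, 2, 0],
  [0, 0, 0, -2, 2, -2, 2, 2, 2, 0, 0, 2, -2, 2, -2, 0, 2, 2, 2, -2, 0, 2, -2, 0],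
  [0, 0, 0, 2, 2, 2, 2, 2, -2, 0, 0, -2, 2, 2, 2, 0, 2, -2, -2, -2, 0, 2, -2, 0],
  [0, 0, 0, -2, 2, 2, 2, -2, 2, 0, 0, -2, 2, 2, -2, 0, -2, -2, 2, 2, 0, 2, 2, 0],
  [-2, -2, -2, 0, 0, 0, 0, 0, 0, -2, -2, 0, 0, 0, 0, 6, 0, 0, 0, 0, 2, 0, 0, 2],
  [-2, -2, -2, 0, 0, 0, 0, 0, 0, -2, 6, 0, 0, 0, 0, -2, 0, 0, 0, 0, 2, 0, 0, 2],
  [0, 0, 0, 2, 2, -2, 2, -2, -2, 0, 0, 2, -2, 2, 2, 0, -2, 2, -2, 2, 0, 2, 2, 0],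
  [0, 0, 0, 2, 2, -2, -2, 2, 2, 0, 0, -2, 2, 2, 2, 0, -2, 2, 2, -2, 0, -2, 2, 0],
  [0, 0, 0, -2, -2, 2, 2, 2, 2, 0, 0, 2, 2, 2, 2, 0, -2, 2, -2, 2, 0, -2, -2, 0],
  [0, 0, 0, -2, -2, -2, -2, 2, -2, 0, 0, 2, 2, 2, 2, 0, 2, -2, 2, 2, 0, 2, 2, 0],
  [-2, -2, -2, 0, 0, 0, 0, 0, 0, 6, -2, 0, 0, 0, 0, -2, 0, 0, 0, 0, 2, 0, 0, 2],
  [0, 0, 0, -2, 2, 2, 2, 2, -2, 0, 0, -2, -2, -2, 2, 0, 2, 2, 2, 2, 0, -2, 2, 0],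
  [0, 0, 0, 2, -2, 2, 2, -2, -2, 0, 0, 2, 2, 2, -2, 0, 2, 2, 2, -2, 0, -2, 2, 0],
  [0, 0, 0, 2, -2, -2, 2, -2, 2, 0, 0, -2, 2, -2, 2, 0, 2, 2, 2, 2, 0, 2, -2, 0],
  [0, 0, 0, 2, 2, 2, -2, -2, 2, 0, 0, 2, -2, 2, 2, 0, 2, -2, 2, 2, 0, -2, -2, 0],
  [2, 2, 2, 0, 0, 0, 0, 0, 0, 2, 2, 0, 0, 0, 0, 2, 0, 0, 0, 0, 6, 0, 0, -2],
  [0, 0, 0, 2, -2, 2, 2, 2, 2, 0, 0, 2, -2, -2, 2, 0, -2, -2, 2, -2, 0, 2, 2, 0],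
  [0, 0, 0, -2, 2, 2, -2, -2, 2, 0, 0, 2, 2, -2, 2, 0, 2, 2, -2, -2, 0, 2, 2, 0],
  [2, 2, 2, 0, 0, 0, 0, 0, 0, 2, 2, 0, 0, 0, 0, 2, 0, 0, 0, 0, -2, 0, 0, 6]]

theorem ok3 : Ok R3 (tr R3) := Cfsg.Agent.CoOneType.CoFast.ok_of_okZ (by decide +kernel)

/-- The matrices. -/
def M : ℕ → List (List ℤ)
  | 2 => R2
  | 3 => R3
  | _ => R1

theorem okM (i : ℕ) : Ok (M i) (tr (M i)) := by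
  unfold M
  split
  · exact ok2
  · exact ok3
  · exact ok1

end Cfsg.Agent.H49.MatMcL
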