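import Mathlib
import Cfsg.Agent.H49.Stab
import Cfsg.Agent.H49.MatMcL
import Cfsg.Agent.H49.CoThreeThree

/-!
# The 5-parts of the Schur multipliers of `Co2`, `Co3` and `McL` (helper49)

`x`, `y` generate an extraspecial group of order 125 of automorphisms of the lattice fixing `leechU` and `leechV`, the
involution `t` inverts `x` and `y`.
-/

set_option autoImplicit false
set_option maxRecDepth 20000

namespace Cfsg.Agent.H49.McLFive

open Cfsg Cfsg.Agent.SporadicA Cfsg.Agent.SporadicStructure.Co0Matrix Cfsg.Agent.CoOneType.CoEval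
open Cfsg.Agent.CoOneType.CoFast Cfsg.Agent.LThreeCo1.Ev Cfsg.Agent.H51.Mult
open Cfsg.Agent.H49.Stab Cfsg.Agent.H49.MatMcL Cfsg.Agent.H49.CoThreeThree

/-- the coordinates of `leechU` -/
def uL : List ℤ := [4, 0, 0, 0, 0, 0, 0, 0, 0, 0, 0, 0, 0, 0, 0, 0, 0, 0, 0, 0, 0, 0, 0, 4]

theorem vecU_eq : ((Spor.leechU : leechLattice) : GolayPt → ℤ) = vec uL := by
  show Spor.vecU = vec uL
  funext p
  revert p
  decide +kernel

theorem k_fixV : apZ R1 vL = vL ∧ apZ R2 vL = vL ∧ apZ R3 vL = vL := by
  decide +kernel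

theorem k_fixU : apZ R1 uL = uL ∧ apZ R2 uL = uL ∧ apZ R3 uL = uL := by
  decide +kernel

theorem fixV (i : ℕ) : (el okM i).1 Spor.leechV = Spor.leechV := by
  apply Subtype.ext
  refine (Rep.apply (rep_mk (okM i)) (l := vL) (by decide) vecV_eq).trans ?_
  rw [← apZ_eq, vecV_eq]
  congr 1
  obtain ⟨h1, h2, h3⟩ := k_fixV
  unfold M
  split <;> assumption

theorem fixU (i : ℕ) : (el okM i).1 Spor.leechU = Spor.leechU := by
  apply Subtype.ext
  refine (Rep.apply (rep_mk (okM i)) (l := uL) (by decide) vecU_eq).trans ?_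
  rw [← apZ_eq, vecU_eq]
  congr 1
  obtain ⟨h1, h2, h3⟩ := k_fixU
  unfold M
  split <;> assumption

theorem c1 : eqB (xM M) (List.replicate 5 1) [] = true := by decide +kernel
theorem c2 : eqB (xM M) (List.replicate 5 2) [] = true := by decide +kernel
theorem c3 : eqB (xM M) [1, 2, 33, 34, 1] [1, 1, 2, 33, 34] = true := by decide +kernel
theorem c4 : eqB (xM M) [1, 2, 33, 34, 2] [2, 1, 2, 33, 34] = true := by decide +kernel
theorem c5 : neB' (xM M) [1, 2] [2, 1] = true := by decide +kernel
theorem c6 : eqB (xM M) [3, 1] [33, 3] = true := by decide +kernel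
theorem c7 : eqB (xM M) [3, 2] [34, 3] = true := by decide +kernel

theorem noCov_co3 [Finite Spor.Co3] (hcard : ¬ 5 ^ 4 ∣ Nat.card Spor.Co3) : NoCov 5 Spor.Co3 := by
  have : Finite (St Spor.leechV) := (inferInstance : Finite Spor.Co3)
  exact noCov_extra okM fixV Nat.prime_five (by decide) c1 c2 c3 c4 c5 c6 c7 hcard

theorem noCov_co2 [Finite Spor.Co2] (hcard : ¬ 5 ^ 4 ∣ Nat.card Spor.Co2) : NoCov 5 Spor.Co2 := by
  have : Finite (St Spor.leechU) := (inferInstance : Finite Spor.Co2)
  exact noCov_extra okM fixU Nat.prime_five (by decide) c1 c2 c3 c4 c5 c6 c7 hcard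

/-- the elements of `McL` -/
noncomputable def me (i : ℕ) : Spor.McL :=
  ⟨(el okM i).1, ⟨(el okM i).2, fixV i⟩, fixU i⟩

/-- the elements of `McL` and their inverses -/
noncomputable def mx (i : ℕ) : Spor.McL := if i < 32 then me i else (me (i - 32))⁻¹

/-- the inclusion -/
noncomputable def incM : Spor.McL →* Co0 := Subgroup.inclusion (inf_le_left.trans inf_le_left)

theorem incM_injective : Function.Injective incM := Subgroup.inclusion_injective _

theorem incM_mx (i : ℕ) : incM (mx i) = xe okM i := by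
  unfold mx xe
  split_ifs
  · rfl
  · rw [map_inv]; rfl

theorem incM_word (w : List ℕ) : incM (w.map mx).prod = (w.map (xe okM)).prod := by
  rw [map_list_prod, List.map_map]
  congr 1
  exact List.map_congr_left fun i _ => incM_mx i

theorem noCov_mcl [Finite Spor.McL] (hcard : ¬ 5 ^ 4 ∣ Nat.card Spor.McL) : NoCov 5 Spor.McL := by
  have hx : ∀ i < 32, mx (i + 32) = (mx i)⁻¹ := by
    intro i hi
    unfold mx
    rw [if_neg (by omega), if_pos hi, Nat.add_sub_cancel]
  refine extra_words mx (fun h => ?_) (fun h => ?_) (hx 1 (by norm_num)) (hx 2 (by norm_num)) Nat.prime_five (by decide)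
    c1 c2 c3 c4 c5 c6 c7 hcard
  · apply incM_injective
    rw [incM_word, incM_word]
    exact eq_of_eqB (xrep okM) h
  · intro h0
    apply ne_of_neB' (xrep okM) h
    rw [← incM_word, ← incM_word, h0]

end Cfsg.Agent.H49.McLFive
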