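import Cfsg.Agent.H49.ThSevenDat
import Cfsg.Agent.OrdDiv.Main
import Cfsg.Agent.H998.StrP.Basic
import Cfsg.Agent.ClassicalGeometry.PSL2Basic
import Cfsg.Agent.S0813
import Cfsg.Agent.S0814
import Cfsg.Agent.S2129

/-!
# The Thompson group has no strongly 7-embedded subgroup (helper49)

`nosp_th_7`, with the list of the simple groups as a hypothesis.
-/

set_option autoImplicit false
set_option maxRecDepth 100000

namespace Cfsg.Agent.H49.ThSeven

open Subgroup Cfsg
open Cfsg.Agent.OrdDiv Cfsg.Agent.H998.StrP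

/-- a group with a normal subgroup of trivial centralizer -/
theorem card_dvd_mulaut {H : Type*} [Group H] [Finite H] (T : Subgroup H) [T.Normal]
    (hC : centralizer (T : Set H) = ⊥) : Nat.card H ∣ Nat.card (MulAut T) := by
  have h1 : (MulAut.conjNormal (H := T) : H →* MulAut T).ker = ⊥ := by
    rw [eq_bot_iff, ← hC]
    intro h hh
    rw [mem_centralizer_iff]
    intro t ht
    have h2 : ((MulAut.conjNormal h ⟨t, ht⟩ : T) : H) = t := by
      rw [MonoidHom.mem_ker.1 hh]
      rfl
    rw [MulAut.conjNormal_apply, mul_inv_eq_iff_eq_mul] at h2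
    exact h2.symm
  exact Subgroup.card_dvd_of_injective _ ((MonoidHom.ker_eq_bot_iff _).1 h1)

/-- the automorphism group and the outer automorphism group -/
theorem card_mulaut_dvd {S : Type*} [Group S] [Finite S] {o : ℕ} (h : Nat.card (Out S) = o) :
    Nat.card (MulAut S) ∣ Nat.card S * o := by
  rw [Subgroup.card_eq_card_quotient_mul_card_subgroup (Inn S), mul_comm, ← h]
  exact Nat.mul_dvd_mul (Subgroup.card_range_dvd _) dvd_rfl

def lTh : List (ℕ × ℕ) := [(2, 15), (3, 10), (5, 3), (7, 2), (13, 1), (19, 1), (31, 1)]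

theorem valid_th : valid lTh 90745943887872000 = true := by decide +kernel

theorem cand_th : ∀ g ∈ (cands lTh 90745943887872000).filter (fun g => (fun n => Nat.beq (n % 49) 0) (ordN g)),
    g = .psl 6 2 ∨ g = .psl 2 49 ∨ g = .psp 2 8 ∨ g = .td4 2 ∨ g = .th := by decide +kernel

/-- no multiple `t k` of `t` with `k ∣ o` has complement `≡ 1 (mod 49)` in `N` -/
def bad (N t o : ℕ) : Bool :=
  (List.range (o + 1)).all fun k => Nat.beq k 0 || !(Nat.beq (N / (t * k) % 49) 1)

theorem arith {N t o i h : ℕ} (ht : 0 < t) (ho : 0 < o) (h1 : t ∣ h) (h2 : h ∣ t * o) (h3 : h * i = N)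
    (h4 : ∃ k, i = 1 + k * 49) (hb : bad N t o = true) : False := by
  obtain ⟨k, rfl⟩ := h1
  have h5 : k ∣ o := Nat.dvd_of_mul_dvd_mul_left ht h2
  have h6 : k ≤ o := Nat.le_of_dvd ho h5
  have h7 : 0 < k := Nat.pos_of_dvd_of_pos h5 ho
  unfold bad at hb
  rw [List.all_eq_true] at hb
  have h8 := hb k (List.mem_range.2 (by omega))
  have h9 : N / (t * k) = i := by
    rw [← h3]
    exact Nat.mul_div_cancel_left _ (Nat.mul_pos ht h7)
  obtain ⟨j, hj⟩ := h4
  have h10 : i % 49 = 1 := by omega
  rw [h9, h10] at h8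
  simp at h8
  omega

theorem f2 : Fact (Nat.Prime 2) := ⟨by norm_num⟩

/-- **the Thompson group has no strongly 7-embedded subgroup** -/
theorem nosp_main (Tb : OrderTable.{0})
    (hS : ∀ (S : Type) [Group S] [Finite S] [IsSimpleGroup S], IsKnownSimple' S) : NoSP 7 Spor.Th := by
  have := f7
  have := f2
  have hctx := Cfsg.Agent.KFacts.Th.Main.ctx
  have hfin := hctx.fin
  intro H hH
  obtain ⟨T, hTn, hTs, hTc, hC, h49⟩ := dat.exists_simple hH
  have hcard : Nat.card Spor.Th = 90745943887872000 := hctx.card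
  have hTH : Nat.card T ∣ Nat.card H := Subgroup.card_subgroup_dvd_card T
  have hHG : Nat.card H ∣ 90745943887872000 := by
    rw [← hcard]
    exact Subgroup.card_subgroup_dvd_card H
  have hidx : Nat.card H * H.index = 90745943887872000 := by
    rw [← hcard]
    exact H.card_mul_index
  -- the index
  have hi : ∃ k, H.index = 1 + k * 49 := by
    obtain ⟨P⟩ : Nonempty (Sylow 7 Spor.Th) := inferInstance
    obtain ⟨k, hk⟩ := index_mod hH P
    have hP : Nat.card P = 49 := by
      rw [Sylow.card_eq_multiplicity, hcard]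
      have h1 : (90745943887872000 : ℕ) = 7 ^ 2 * 1851958038528000 := by norm_num
      have h2 : (90745943887872000 : ℕ).factorization 7 = 2 := by
        rw [h1, Nat.factorization_mul (by norm_num) (by norm_num), Finsupp.add_apply,
          Nat.Prime.factorization_pow (by norm_num), Finsupp.single_eq_same,
          Nat.factorization_eq_zero_of_not_dvd (by norm_num)]
      rw [h2]
      norm_num
    rw [hP] at hk
    exact ⟨k, hk⟩
  have hknown : IsKnownSimple' T := hS T
  have hna : ¬ ∀ a b : T, a * b = b * a := fun h => hTc ⟨⟨h⟩⟩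
  obtain ⟨g, hg, hR, ho⟩ := exists_good Tb hknown hna valid_th (hTH.trans hHG)
  have hg2 : g ∈ (cands lTh 90745943887872000).filter (fun g => (fun n => Nat.beq (n % 49) 0) (ordN g)) := by
    refine List.mem_filter.2 ⟨hg, ?_⟩
    rw [← ho]
    rw [Nat.beq_eq]
    exact Nat.mod_eq_zero_of_dvd h49
  have hAut := card_dvd_mulaut T hC
  rcases cand_th g hg2 with rfl | rfl | rfl | rfl | rfl
  · obtain ⟨F, _, _, hF, ⟨e⟩⟩ := hR
    have ho' : Nat.card T = 20158709760 := ho.trans (by decide +kernel)
    have h1 : Nat.card (MulAut T) = Nat.card T * 2 := by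
      rw [Nat.card_congr (MulAut.congr e).toEquiv, S0813.result 2 1 le_rfl (by rw [hF]; rfl) 6 (by norm_num) (by norm_num)]
      have h2 := ClassicalGeometry.PSL2Basic.card_PGL_mul (Fin 6) F
      rw [Matrix.card_GL_field, hF] at h2
      have h3 : (∏ i : Fin 6, (2 ^ 6 - 2 ^ (i : ℕ)) : ℕ) = 20158709760 := by decide +kernel
      rw [h3] at h2
      rw [ho', if_neg (by norm_num)]
      omega
    rw [h1] at hAut
    rw [ho'] at hTH hAut
    exact arith (o := 2) (by norm_num) (by norm_num) hTH hAut hidx hi (by decide +kernel)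
  · obtain ⟨F, _, _, hF, ⟨e⟩⟩ := hR
    have ho' : Nat.card T = 58800 := ho.trans (by decide +kernel)
    have h1 : Nat.card (MulAut T) = Nat.card T * 4 := by
      rw [Nat.card_congr (MulAut.congr e).toEquiv, S0813.result 7 2 (by norm_num) (by rw [hF]; norm_num) 2 (by norm_num) (by norm_num)]
      have h2 := ClassicalGeometry.PSL2Basic.card_PGL_mul (Fin 2) F
      rw [Matrix.card_GL_field, hF] at h2
      have h3 : (∏ i : Fin 2, (49 ^ 2 - 49 ^ (i : ℕ)) : ℕ) = 117600 * 48 := by decide +kernel
      rw [h3] at h2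
      rw [ho', if_pos rfl]
      omega
    rw [h1] at hAut
    rw [ho'] at hTH hAut
    exact arith (o := 4) (by norm_num) (by norm_num) hTH hAut hidx hi (by decide +kernel)
  · obtain ⟨F, _, _, hF, ⟨e⟩⟩ := hR
    have ho' : Nat.card T = 1056706560 := ho.trans (by decide +kernel)
    have h1 : Nat.card (MulAut T) = Nat.card T * 6 := by
      rw [Nat.card_congr (MulAut.congr e).toEquiv, S0814.result 2 3 (by norm_num) (by rw [hF]; norm_num) 2 (by norm_num) (by norm_num),
        ← Nat.card_congr e.toEquiv, if_pos ⟨rfl, rfl⟩]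
      norm_num
      ring
    rw [h1] at hAut
    rw [ho'] at hTH hAut
    exact arith (o := 6) (by norm_num) (by norm_num) hTH hAut hidx hi (by decide +kernel)
  · obtain ⟨F, _, _, hF, ⟨e⟩⟩ := hR
    have ho' : Nat.card T = 211341312 := ho.trans (by decide +kernel)
    have hch : CharP F 2 := by
      obtain ⟨p, hp⟩ := CharP.exists F
      obtain ⟨n, hp', hn⟩ := FiniteField.card F p
      rw [hF] at hn
      have h3 : p ∣ 2 := by
        apply hp'.dvd_of_dvd_pow (n := 3)
        rw [hn]
        exact dvd_pow_self p n.ne_zero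
      rw [(Nat.prime_dvd_prime_iff_eq hp' Nat.prime_two).1 h3] at hp
      exact hp
    have h0 := S2129.result (K := F) 2 1 (by rw [hF]) le_rfl
    rw [pow_one] at h0
    have h1 := card_mulaut_dvd h0
    rw [← Nat.card_congr (MulAut.congr e).toEquiv, ← Nat.card_congr e.toEquiv] at h1
    have h2 := hAut.trans h1
    rw [ho'] at hTH h2
    exact arith (o := 3) (by norm_num) (by norm_num) hTH h2 hidx hi (by decide +kernel)
  · apply hH.2.1
    apply Subgroup.eq_top_of_card_eq
    apply Nat.dvd_antisymm (Subgroup.card_subgroup_dvd_card H)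
    rw [hcard]
    have h1 : ordN .th = 90745943887872000 := by decide +kernel
    rw [← h1, ← ho]
    exact hTH

/-- **the Thompson group has no strongly 7-embedded subgroup** -/
theorem nosp_th_7 (Tb : OrderTable.{0})
    (hS : ∀ (S : Type) [Group S] [Finite S] [IsSimpleGroup S], IsKnownSimple' S) {G : Type*} [Group G] [Finite G]
    (h : Spor.IsoTh G) : NoSP 7 G := by
  have := f7
  have hfin := Cfsg.Agent.KFacts.Th.Main.ctx.fin
  obtain ⟨e⟩ := h
  exact (nosp_main Tb hS).congr e

end Cfsg.Agent.H49.ThSeven
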