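import Cfsg.Agent.H49.ThFiveDat
import Cfsg.Agent.H49.ThSevenRow
import Cfsg.Agent.S0815

/-!
# The Thompson group has no strongly 5-embedded subgroup (helper49)

`nosp_th_5`, with the list of the simple groups as a hypothesis.
-/

set_option autoImplicit false
set_option maxRecDepth 100000

namespace Cfsg.Agent.H49.ThFive

open Subgroup Cfsg
open Cfsg.Agent.OrdDiv Cfsg.Agent.H998.StrP
open Cfsg.Agent.H49.ThSeven (lTh valid_th card_dvd_mulaut)

theorem cand_th : ∀ g ∈ (cands lTh 90745943887872000).filter (fun g => (fun n => Nat.beq (n % 125) 0) (ordN g)),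
    g = .psl 3 5 ∨ g = .psl 2 125 ∨ g = .psu 3 5 ∨ g = .th := by decide +kernel

/-- no multiple `t k` of `t` with `k ∣ o` has complement `≡ 1 (mod 125)` in `N`, unless `t k = e` -/
def bad (N t o e : ℕ) : Bool :=
  (List.range (o + 1)).all fun k => Nat.beq k 0 || Nat.beq (t * k) e || !(Nat.beq (N / (t * k) % 125) 1)

theorem arithRow {N t o i h e : ℕ} (ht : 0 < t) (ho : 0 < o) (h1 : t ∣ h) (h2 : h ∣ t * o) (h3 : h * i = N)
    (h4 : ∃ k, i = 1 + k * 125) (he : h ≠ e) (hb : bad N t o e = true) : False := by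
  obtain ⟨k, rfl⟩ := h1
  have h5 : k ∣ o := Nat.dvd_of_mul_dvd_mul_left ht h2
  have h6 : k ≤ o := Nat.le_of_dvd ho h5
  have h7 : 0 < k := Nat.pos_of_dvd_of_pos h5 ho
  unfold bad at hb
  rw [List.all_eq_true] at hb
  have h8 := hb k (List.mem_range.2 (by omega))
  have h9 : N / (t * k) = i := by
    rw [← h3]
    exact Nat.mul_div_cancel_left _ (Nat.mul_pos ht h7)
  obtain ⟨j, hj⟩ := h4
  have h10 : i % 125 = 1 := by omega
  have h11 : Nat.beq (t * k) e = false := by
    rw [← Bool.not_eq_true, Nat.beq_eq]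
    exact he
  rw [h9, h10, h11] at h8
  simp at h8
  omega

/-- **the Thompson group has no strongly 5-embedded subgroup** -/
theorem nosp_main (Tb : OrderTable.{0})
    (hS : ∀ (S : Type) [Group S] [Finite S] [IsSimpleGroup S], IsKnownSimple' S) : NoSP 5 Spor.Th := by
  have := f5
  obtain ⟨hfin, x, y, z, a, D⟩ := exists_dat
  intro H₀ hH₀
  -- a conjugate containing `z`
  obtain ⟨g₀, hg₀⟩ := SP.exists_conj_mem hH₀ D.oz
  have hH : IsStronglyPEmbedded 5 (H₀.map (MulAut.conj g₀⁻¹).toMonoidHom) := H233.Simple.conj hH₀ g₀⁻¹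
  have hz : z ∈ H₀.map (MulAut.conj g₀⁻¹).toMonoidHom := by
    refine ⟨_, hg₀, ?_⟩
    change g₀⁻¹ * (g₀ * z * g₀⁻¹) * g₀⁻¹⁻¹ = z
    group
  obtain ⟨H, hHd⟩ : ∃ H : Subgroup Spor.Th, H = H₀.map (MulAut.conj g₀⁻¹).toMonoidHom := ⟨_, rfl⟩
  rw [← hHd] at hH hz
  obtain ⟨T, hTn, hTs, hTc, hC, h125⟩ := D.exists_simple hH hz
  have hne := D.card_ne hH hz
  have hcard : Nat.card Spor.Th = 90745943887872000 := D.cardK
  have hTH : Nat.card T ∣ Nat.card H := Subgroup.card_subgroup_dvd_card T
  have hHG : Nat.card H ∣ 90745943887872000 := by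
    rw [← hcard]
    exact Subgroup.card_subgroup_dvd_card H
  have hidx : Nat.card H * H.index = 90745943887872000 := by
    rw [← hcard]
    exact H.card_mul_index
  -- the index
  have hi : ∃ k, H.index = 1 + k * 125 := by
    obtain ⟨P⟩ : Nonempty (Sylow 5 Spor.Th) := inferInstance
    obtain ⟨k, hk⟩ := index_mod hH P
    have hP : Nat.card P = 125 := by
      rw [Sylow.card_eq_multiplicity, hcard]
      have h1 : (90745943887872000 : ℕ) = 5 ^ 3 * 725967551102976 := by norm_num
      have h2 : (90745943887872000 : ℕ).factorization 5 = 3 := by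
        rw [h1, Nat.factorization_mul (by norm_num) (by norm_num), Finsupp.add_apply,
          Nat.Prime.factorization_pow (by norm_num), Finsupp.single_eq_same,
          Nat.factorization_eq_zero_of_not_dvd (by norm_num)]
      rw [h2]
      norm_num
    rw [hP] at hk
    exact ⟨k, hk⟩
  have hknown : IsKnownSimple' T := hS T
  have hna : ¬ ∀ a b : T, a * b = b * a := fun h => hTc ⟨⟨h⟩⟩
  obtain ⟨g, hg, hR, ho⟩ := exists_good Tb hknown hna valid_th (hTH.trans hHG)
  have hg2 : g ∈ (cands lTh 90745943887872000).filter (fun g => (fun n => Nat.beq (n % 125) 0) (ordN g)) := by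
    refine List.mem_filter.2 ⟨hg, ?_⟩
    rw [← ho]
    rw [Nat.beq_eq]
    exact Nat.mod_eq_zero_of_dvd h125
  have hAut := card_dvd_mulaut T hC
  have f5 : Fact (Nat.Prime 5) := ⟨by norm_num⟩
  rcases cand_th g hg2 with rfl | rfl | rfl | rfl
  · obtain ⟨F, _, _, hF, ⟨e⟩⟩ := hR
    have ho' : Nat.card T = 372000 := ho.trans (by decide +kernel)
    have h1 : Nat.card (MulAut T) = Nat.card T * 2 := by
      rw [Nat.card_congr (MulAut.congr e).toEquiv, S0813.result 5 1 le_rfl (by rw [hF]; rfl) 3 (by norm_num) (by norm_num)]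
      have h2 := ClassicalGeometry.PSL2Basic.card_PGL_mul (Fin 3) F
      rw [Matrix.card_GL_field, hF] at h2
      have h3 : (∏ i : Fin 3, (5 ^ 3 - 5 ^ (i : ℕ)) : ℕ) = 372000 * 4 := by decide +kernel
      rw [h3] at h2
      rw [ho', if_neg (by norm_num)]
      omega
    rw [h1] at hAut
    rw [ho'] at hTH hAut
    exact arithRow (o := 2) (by norm_num) (by norm_num) hTH hAut hidx hi hne (by decide +kernel)
  · obtain ⟨F, _, _, hF, ⟨e⟩⟩ := hR
    have ho' : Nat.card T = 976500 := ho.trans (by decide +kernel)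
    have h1 : Nat.card (MulAut T) = Nat.card T * 6 := by
      rw [Nat.card_congr (MulAut.congr e).toEquiv, S0813.result 5 3 (by norm_num) (by rw [hF]; norm_num) 2 (by norm_num) (by norm_num)]
      have h2 := ClassicalGeometry.PSL2Basic.card_PGL_mul (Fin 2) F
      rw [Matrix.card_GL_field, hF] at h2
      have h3 : (∏ i : Fin 2, (125 ^ 2 - 125 ^ (i : ℕ)) : ℕ) = 1953000 * 124 := by decide +kernel
      rw [h3] at h2
      rw [ho', if_pos rfl]
      omega
    rw [h1] at hAut
    rw [ho'] at hTH hAut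
    exact arithRow (o := 6) (by norm_num) (by norm_num) hTH hAut hidx hi hne (by decide +kernel)
  · obtain ⟨F, _, _, hF, ⟨e⟩⟩ := hR
    have ho' : Nat.card T = 126000 := ho.trans (by decide +kernel)
    have h1 : Nat.card (MulAut T) = Nat.card T * 6 := by
      rw [Nat.card_congr (MulAut.congr e).toEquiv, S0815.result 5 1 le_rfl (q := 5) (by norm_num) hF 3 le_rfl (by norm_num),
        ← Nat.card_congr e.toEquiv]
      norm_num
      ring
    rw [h1] at hAut
    rw [ho'] at hTH hAut
    exact arithRow (o := 6) (by norm_num) (by norm_num) hTH hAut hidx hi hne (by decide +kernel)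
  · apply hH.2.1
    apply Subgroup.eq_top_of_card_eq
    apply Nat.dvd_antisymm (Subgroup.card_subgroup_dvd_card H)
    rw [hcard]
    have h1 : ordN .th = 90745943887872000 := by decide +kernel
    rw [← h1, ← ho]
    exact hTH

/-- **the Thompson group has no strongly 5-embedded subgroup** -/
theorem nosp_th_5 (Tb : OrderTable.{0})
    (hS : ∀ (S : Type) [Group S] [Finite S] [IsSimpleGroup S], IsKnownSimple' S) {G : Type*} [Group G] [Finite G]
    (h : Spor.IsoTh G) : NoSP 5 G := by
  have := f5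
  have hfin := Cfsg.Agent.KFacts.Th.Main.ctx.fin
  obtain ⟨e⟩ := h
  exact (nosp_main Tb hS).congr e

end Cfsg.Agent.H49.ThFive
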