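import Cfsg.Agent.H233.Simple
import Cfsg.Agent.H998.StrP.Arith

/-!
# Strongly `p`-embedded subgroups: the structural method (helper49)

* `fusion` : a strongly `p`-embedded subgroup controls the fusion of its elements of order `p`;
* `exists_simple` : a finite group `X` with `O_p(X) = O_{p'}(X) = 1` in which all subgroups of order `p` are conjugate
  has a simple normal subgroup `T` with trivial centralizer containing all elements of order `p`.
-/

set_option autoImplicit false

namespace Cfsg.Agent.H49.SP

open Cfsg Subgroup Cfsg.Agent.EvenType.StrongP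
open Cfsg.Agent.SignalizersComponents.Components

section

variable {K : Type*} [Group K] [Finite K] {p : ℕ} [hp : Fact p.Prime]

/-- a strongly `p`-embedded subgroup controls the fusion of its elements of order `p` -/
theorem fusion {H : Subgroup K} (hH : IsStronglyPEmbedded p H) {x g : K} (hx : x ∈ H) (ho : orderOf x = p)
    (h : g * x * g⁻¹ ∈ H) : g ∈ H := by
  by_contra hg
  apply inter hH hg
  have h1 : g * x * g⁻¹ ∈ H ⊓ H.map (MulAut.conj g).toMonoidHom := ⟨h, ⟨x, hx, rfl⟩⟩
  have h2 := Subgroup.orderOf_dvd_natCard _ h1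
  have h3 : orderOf (g * x * g⁻¹) = p := by
    rw [← ho]
    exact orderOf_injective (MulAut.conj g).toMonoidHom (MulAut.conj g).injective x
  rwa [h3] at h2

/-- all subgroups of order `p` are conjugate in a strongly `p`-embedded subgroup if they are in `K` -/
theorem oneClass {H : Subgroup K} (hH : IsStronglyPEmbedded p H)
    (hU : ∀ x y : K, orderOf x = p → orderOf y = p → ∃ g : K, g * x * g⁻¹ ∈ zpowers y)
    (x y : H) (hx : orderOf x = p) (hy : orderOf y = p) : ∃ g : H, g * x * g⁻¹ ∈ zpowers y := by
  have hx' : orderOf (x : K) = p := by rw [Subgroup.orderOf_coe, hx]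
  have hy' : orderOf (y : K) = p := by rw [Subgroup.orderOf_coe, hy]
  obtain ⟨g, k, hk⟩ := hU x y hx' hy'
  have hk' : (y : K) ^ k = g * x * g⁻¹ := hk
  have hg : g ∈ H := fusion hH x.2 hx' (hk' ▸ H.zpow_mem y.2 k)
  refine ⟨⟨g, hg⟩, k, Subtype.ext ?_⟩
  exact hk

/-- elements of order `p` of `K` have conjugates in `H` -/
theorem exists_conj_mem {H : Subgroup K} (hH : IsStronglyPEmbedded p H) {x : K} (hx : orderOf x = p) :
    ∃ g : K, g * x * g⁻¹ ∈ H := by
  obtain ⟨g, y, hy, hyx⟩ := H233.Simple.exists_conj_mem hH (x := x) (by rw [← hx, pow_orderOf_eq_one])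
  refine ⟨g⁻¹, ?_⟩
  have h1 : g * y * g⁻¹ = x := hyx
  rw [← h1]
  have : g⁻¹ * (g * y * g⁻¹) * g⁻¹⁻¹ = y := by group
  rwa [this]

end

section

variable {X : Type*} [Group X] [Finite X] {p : ℕ} [hp : Fact p.Prime]

/-- **the structural theorem** -/
theorem exists_simple (hO' : pPrimeCore p X = ⊥) (hO : pCore p X = ⊥) (hd : p ∣ Nat.card X)
    (hU : ∀ x y : X, orderOf x = p → orderOf y = p → ∃ g : X, g * x * g⁻¹ ∈ zpowers y) :
    ∃ T : Subgroup X, T.Normal ∧ IsSimpleGroup ↥T ∧ ¬ IsMulCommutative ↥T ∧ centralizer (T : Set X) = ⊥ ∧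
      ∀ x : X, orderOf x = p → x ∈ T := by
  have hF : fittingSubgroup X = ⊥ := by
    have h1 := SignalizersComponents.CompOrbit.fittingSubgroup_le_pCore (p := p) hO'
    rw [hO] at h1
    exact le_bot_iff.1 h1
  have hlay : generalizedFittingSubgroup X = layer X := by
    rw [Lib.GenFitting.genFitting_def, hF, sup_bot_eq]
  have hdc : ∀ {K : Subgroup X}, IsComponent K → p ∣ Nat.card K := fun hK => H233.Simple.dvd_card_component hO' hK
  -- there is a component
  obtain ⟨T, hT⟩ : ∃ K : Subgroup X, IsComponent K := by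
    by_contra hc
    push Not at hc
    have h1 : layer X = ⊥ := by
      rw [← le_bot_iff, layer_le_iff]
      intro K hK
      exact absurd hK (hc K)
    have h2 := Lib.GenFitting.centralizer_genFitting_le (G := X)
    rw [hlay, h1] at h2
    have h3 : (⊤ : Subgroup X) ≤ ⊥ := by
      refine le_trans ?_ h2
      intro g _
      rw [mem_centralizer_iff]
      intro x hx
      rw [SetLike.mem_coe, mem_bot] at hx
      rw [hx, one_mul, mul_one]
    have h4 : Nat.card X = 1 := by
      rw [← Subgroup.card_top, le_bot_iff.1 h3, Subgroup.card_bot]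
    rw [h4, Nat.dvd_one] at hd
    exact hp.out.one_lt.ne' hd
  -- the centre of a component is trivial
  have hcen : ∀ {K : Subgroup X}, IsComponent K → ∀ z ∈ K, (∀ k ∈ K, z * k = k * z) → z = 1 := by
    intro K hK z hz hzc
    have h1 : z ∈ centralizer (layer X : Set X) := by
      have h2 : layer X ≤ centralizer ({z} : Set X) := by
        rw [layer_le_iff]
        intro J hJ
        by_cases hJK : J = K
        · intro j hj
          rw [mem_centralizer_iff]
          rintro _ rfl
          exact hzc j (hJK ▸ hj)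
        · refine (component_le_centralizer_of_ne hJ hK hJK).trans (Subgroup.centralizer_le ?_)
          rw [Set.singleton_subset_iff]
          exact hz
      rw [mem_centralizer_iff]
      intro j hj
      exact (mem_centralizer_iff.1 (h2 hj) z rfl).symm
    have h3 := SignalizersComponents.CompOrbit.inf_centralizer_self_le_pCore (p := p) (N := layer X) hO' (layer_normal X)
    rw [hO, le_bot_iff] at h3
    have h4 : z ∈ layer X ⊓ centralizer (layer X : Set X) := ⟨component_le_layer hK hz, h1⟩
    rw [h3, mem_bot] at h4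
    exact h4
  -- the elements of order `p`
  have key : ∀ {K L : Subgroup X}, IsComponent K → IsComponent L → K = L := by
    intro K L hK hL
    by_contra hne
    obtain ⟨⟨k, hkK⟩, hk⟩ := exists_prime_orderOf_dvd_card' (G := K) p (hdc hK)
    obtain ⟨⟨l, hlL⟩, hl⟩ := exists_prime_orderOf_dvd_card' (G := L) p (hdc hL)
    rw [Subgroup.orderOf_mk] at hk hl
    have hk1 : k ≠ 1 := by
      rintro rfl
      rw [orderOf_one] at hk
      exact hp.out.one_lt.ne hk
    have hl1 : l ≠ 1 := by
      rintro rfl
      rw [orderOf_one] at hl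
      exact hp.out.one_lt.ne hl
    have hKL : ∀ a ∈ K, ∀ b ∈ L, a * b = b * a := by
      intro a ha b hb
      exact ((mem_centralizer_iff.1 (component_le_centralizer_of_ne hK hL hne ha)) b hb).symm
    have hkl : orderOf (k * l) = p := by
      apply orderOf_eq_prime
      · have hc : Commute k l := hKL k hkK l hlL
        rw [hc.mul_pow]
        nth_rewrite 1 [← hk]
        rw [pow_orderOf_eq_one, one_mul, ← hl, pow_orderOf_eq_one]
      · intro h
        have h1 : k = l⁻¹ := eq_inv_of_mul_eq_one_left h
        apply hk1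
        apply hcen hK k hkK
        intro a ha
        rw [h1]
        exact (hKL a ha l⁻¹ (L.inv_mem hlL)).symm
    obtain ⟨g, m, hm⟩ := hU (k * l) k hkl hk
    have hgK : g * (k * l) * g⁻¹ ∈ K := by
      have : g * (k * l) * g⁻¹ = k ^ m := hm.symm
      rw [this]
      exact K.zpow_mem hkK m
    -- `J = K ^ (g⁻¹)`
    have hJ : IsComponent (K.map (MulAut.conj g⁻¹).toMonoidHom) := isComponent_conj g⁻¹ hK
    obtain ⟨J, hJd⟩ : ∃ J : Subgroup X, J = K.map (MulAut.conj g⁻¹).toMonoidHom := ⟨_, rfl⟩
    rw [← hJd] at hJ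
    have hxJ : k * l ∈ J := by
      rw [hJd]
      refine ⟨_, hgK, ?_⟩
      change g⁻¹ * (g * (k * l) * g⁻¹) * g⁻¹⁻¹ = k * l
      group
    have h1 : J = K := by
      by_contra hJK
      apply hk1
      apply hcen hK k hkK
      intro a ha
      have h2 : a * (k * l) = k * l * a :=
        (mem_centralizer_iff.1 (component_le_centralizer_of_ne hJ hK hJK hxJ) a ha)
      have h3 : k * a * l = a * k * l := by
        rw [mul_assoc, hKL a ha l hlL, ← mul_assoc, ← h2, mul_assoc]
      exact mul_right_cancel h3
    have h2 : J = L := by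
      by_contra hJL
      apply hl1
      apply hcen hL l hlL
      intro a ha
      have h2 : a * (k * l) = k * l * a :=
        (mem_centralizer_iff.1 (component_le_centralizer_of_ne hJ hL hJL hxJ) a ha)
      have h3 : k * (l * a) = k * (a * l) := by
        rw [← mul_assoc, ← h2, ← mul_assoc, ← mul_assoc, hKL k hkK a ha]
      exact mul_left_cancel h3
    exact hne (h1.symm.trans h2)
  have hlT : layer X = T := by
    apply le_antisymm
    · rw [layer_le_iff]
      intro J hJ
      rw [key hJ hT]
    · exact component_le_layer hT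
  have hTn : T.Normal := by
    rw [← hlT]
    exact layer_normal X
  have hTc : centralizer (T : Set X) = ⊥ := by
    have h1 := Lib.GenFitting.centralizer_genFitting_le (G := X)
    rw [hlay, hlT] at h1
    rw [eq_bot_iff]
    intro z hz
    rw [mem_bot]
    apply hcen hT z (h1 hz)
    intro k hk
    exact (mem_centralizer_iff.1 hz k hk).symm
  refine ⟨T, hTn, ?_, quasisimple_not_isMulCommutative hT.2, hTc, ?_⟩
  · have hc : center ↥T = ⊥ := by
      rw [eq_bot_iff]
      intro z hz
      rw [mem_bot]
      apply Subtype.ext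
      apply hcen hT z z.2
      intro k hk
      exact (congrArg Subtype.val (mem_center_iff.1 hz ⟨k, hk⟩)).symm
    have h3 := hT.2.2
    have e : ↥T ⧸ center ↥T ≃* ↥T := (QuotientGroup.quotientMulEquivOfEq hc).trans QuotientGroup.quotientBot
    have : Nontrivial ↥T := quasisimple_nontrivial hT.2
    exact IsSimpleGroup.isSimpleGroup_of_surjective e.toMonoidHom e.surjective
  · intro x hx
    obtain ⟨⟨y, hyT⟩, hy⟩ := exists_prime_orderOf_dvd_card' (G := T) p (hdc hT)
    rw [Subgroup.orderOf_mk] at hy
    obtain ⟨g, m, hm⟩ := hU x y hx hy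
    have h1 : g * x * g⁻¹ ∈ T := by
      have : g * x * g⁻¹ = y ^ m := hm.symm
      rw [this]
      exact T.zpow_mem hyT m
    have h2 := hTn.conj_mem _ h1 g⁻¹
    have h3 : g⁻¹ * (g * x * g⁻¹) * g⁻¹⁻¹ = x := by group
    rwa [h3] at h2

end

end Cfsg.Agent.H49.SP
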