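import Cfsg.Agent.H285.SF.Defs
import Cfsg.Agent.H759.FusFactor
import Cfsg.Agent.H755.FusProdSat

/-!
# The factor system of a central product by one factor (helper49, for S5314 of helper285)

`fIso_factor`: for a central product `D` of the inner system of `Q` and `K` with `Q ∩ T = 1` the factor system `D / Q` is
isomorphic to `K`.
-/

set_option autoImplicit false

namespace Cfsg.Agent.H49.FIsoFactor

open Cfsg Cfsg.FusionSystem Cfsg.Agent.H752 Cfsg.Agent.H285.SF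

section

variable {Ω : Type*} [Group Ω] {Q T U : Subgroup Ω}

/-- Elementwise description of a central product of an inner system and `K`. -/
structure Elt (Q : Subgroup Ω) (K : FusionSystem T) (D : FusionSystem U) : Prop where
  comm : ∀ a ∈ Q, ∀ b ∈ T, a * b = b * a
  le₁ : Q ≤ U
  le₂ : T ≤ U
  dec : ∀ u ∈ U, ∃ a ∈ Q, ∃ b ∈ T, a * b = u
  down : ∀ (P : Subgroup Ω) (φ : P →* Ω), φ ∈ D.Hom P → ∃ (P₂ : Subgroup Ω) (φ₂ : P₂ →* Ω), φ₂ ∈ K.Hom P₂ ∧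
    ∃ g ∈ Q, ∀ a ∈ Q, ∀ b ∈ T, ∀ h : a * b ∈ P, ∃ hb : b ∈ P₂, φ ⟨a * b, h⟩ = g * a * g⁻¹ * φ₂ ⟨b, hb⟩
  up : ∀ (P₂ : Subgroup Ω) (φ₂ : P₂ →* Ω), φ₂ ∈ K.Hom P₂ → ∀ (P : Subgroup Ω) (φ : P →* Ω), P ≤ U →
    (∀ a ∈ Q, ∀ b ∈ T, ∀ h : a * b ∈ P, ∃ hb : b ∈ P₂, φ ⟨a * b, h⟩ = a * φ₂ ⟨b, hb⟩) → φ ∈ D.Hom P

theorem elt {K : FusionSystem T} {D : FusionSystem U} (h : IsCentralProductOf (innerFusionSystem Q) K D) :
    Elt Q K D := by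
  obtain ⟨D₀, hD₀, Z, θ, hZc, -, -, hθ1, hθ2, hZle, hker, hran, hfac⟩ := h
  have m1 : ∀ (a : Ω), a ∈ Q → ((a, 1) : Ω × Ω) ∈ Q.prod T := fun a ha => ⟨ha, one_mem _⟩
  have m2 : ∀ (b : Ω), b ∈ T → ((1, b) : Ω × Ω) ∈ Q.prod T := fun b hb => ⟨one_mem _, hb⟩
  have hθ : ∀ (a b : Ω) (h : (a, b) ∈ Q.prod T), θ ⟨(a, b), h⟩ = a * b := by
    intro a b h
    have h1 : (⟨(a, b), h⟩ : Q.prod T) = ⟨(a, 1), m1 a h.1⟩ * ⟨(1, b), m2 b h.2⟩ := by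
      apply Subtype.ext
      show (a, b) = (a * 1, 1 * b)
      rw [mul_one, one_mul]
    rw [h1, map_mul, hθ1, hθ2]
  have hcomm : ∀ a ∈ Q, ∀ b ∈ T, a * b = b * a := by
    intro a ha b hb
    rw [← hθ a b ⟨ha, hb⟩]
    have h1 : (⟨(a, b), ⟨ha, hb⟩⟩ : Q.prod T) = ⟨(1, b), m2 b hb⟩ * ⟨(a, 1), m1 a ha⟩ := by
      apply Subtype.ext
      show (a, b) = (1 * a, b * 1)
      rw [mul_one, one_mul]
    rw [h1, map_mul, hθ1, hθ2]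
  refine ⟨hcomm, ?_, ?_, ?_, ?_, ?_⟩
  · intro a ha
    rw [← hran]
    exact ⟨_, hθ1 a (m1 a ha)⟩
  · intro b hb
    rw [← hran]
    exact ⟨_, hθ2 b (m2 b hb)⟩
  · intro u hu
    rw [← hran] at hu
    obtain ⟨⟨⟨a, b⟩, h⟩, rfl⟩ := hu
    exact ⟨a, h.1, b, h.2, (hθ a b h).symm⟩
  · intro P φ hφ
    obtain ⟨-, φ₀, hφ₀, hp, hv, hp', he⟩ := (hfac P φ).1 hφ
    obtain ⟨-, φ₁, ⟨-, g, hg, hg'⟩, φ₂, hφ₂, he₀⟩ := (hD₀ _ φ₀).1 hφ₀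
    refine ⟨_, φ₂, hφ₂, g, hg, fun a ha b hb h => ?_⟩
    have hmem : (a, b) ∈ preimageAlong θ P :=
      H759.mem_preimageAlong.2 ⟨⟨ha, hb⟩, by rw [hθ a b ⟨ha, hb⟩]; exact h⟩
    refine ⟨⟨(a, b), hmem, rfl⟩, ?_⟩
    have h1 := he ⟨(a, b), hmem⟩
    have h2 := he₀ ⟨(a, b), hmem⟩ ⟨(a, b), hmem, rfl⟩ ⟨(a, b), hmem, rfl⟩
    have h3 : (⟨θ ⟨(a, b), hp hmem⟩, hp' ⟨(a, b), hmem⟩⟩ : P) = ⟨a * b, h⟩ := Subtype.ext (hθ a b _)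
    rw [h3] at h1
    rw [h1]
    have h4 : (⟨φ₀ ⟨(a, b), hmem⟩, hv ⟨(a, b), hmem⟩⟩ : Q.prod T) =
        ⟨(φ₁ ⟨a, ⟨(a, b), hmem, rfl⟩⟩, φ₂ ⟨b, ⟨(a, b), hmem, rfl⟩⟩), h2 ▸ hv ⟨(a, b), hmem⟩⟩ := Subtype.ext h2
    rw [h4, hθ, hg']
  · intro P₂ φ₂ hφ₂ P φ hPU he
    rw [hfac]
    refine ⟨hPU, ?_⟩
    have hpre : ∀ (a b : Ω) (h : (a, b) ∈ preimageAlong θ P), a * b ∈ P ∧ a ∈ Q ∧ b ∈ T ∧ b ∈ P₂ := by
      intro a b h
      obtain ⟨h1, h2⟩ := H759.mem_preimageAlong.1 h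
      rw [hθ a b h1] at h2
      obtain ⟨hb, -⟩ := he a h1.1 b h1.2 h2
      exact ⟨h2, h1.1, h1.2, hb⟩
    have hle₁ : (preimageAlong θ P).map (MonoidHom.fst Ω Ω) ≤ Q := by
      rintro _ ⟨⟨a, b⟩, h, rfl⟩
      exact (hpre a b h).2.1
    have hle₂ : (preimageAlong θ P).map (MonoidHom.snd Ω Ω) ≤ P₂ := by
      rintro _ ⟨⟨a, b⟩, h, rfl⟩
      exact (hpre a b h).2.2.2
    refine ⟨H755.prodHom _ ((preimageAlong θ P).map (MonoidHom.fst Ω Ω)).subtype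
      (φ₂.comp (Subgroup.inclusion hle₂)), ?_, ?_⟩
    · rw [hD₀]
      exact ⟨H759.preimageAlong_le, _, ⟨hle₁, 1, one_mem _, fun x => by simp⟩, _, H802.restrict_mem hφ₂ hle₂,
        fun x h₁ h₂ => rfl⟩
    · refine ⟨H759.preimageAlong_le, fun x => ?_, fun x => (H759.mem_preimageAlong.1 x.2).2, ?_⟩
      · exact ⟨(hpre _ _ x.2).2.1, (K.le_of_mem hφ₂).2 _⟩
      · rintro ⟨⟨a, b⟩, h⟩
        obtain ⟨h1, h2, h3, h4⟩ := hpre a b h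
        obtain ⟨hb, h5⟩ := he a h2 b h3 h1
        have h6 : (⟨θ ⟨(a, b), H759.preimageAlong_le h⟩, (H759.mem_preimageAlong.1 h).2⟩ : P) = ⟨a * b, h1⟩ :=
          Subtype.ext (hθ a b _)
        rw [h6, h5]
        exact (hθ _ _ ⟨h2, (K.le_of_mem hφ₂).2 ⟨b, hb⟩⟩).symm

end

/-- **The factor system of a central product by one factor.** -/
theorem fIso_factor {Ω : Type*} [Group Ω] {Q T U : Subgroup Ω} {K : FusionSystem T} {D : FusionSystem U}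
    (hQT : Q ⊓ T = ⊥) (hp : IsCentralProductOf (innerFusionSystem Q) K D) {Ω' : Type*} [Group Ω'] {U' : Subgroup Ω'}
    (θ : ↥U →* Ω') (D' : FusionSystem U') (hD' : D.IsFactorSystem Q θ D') : ∃ j j', FIso K D' j j' ∧
      ∀ (t : Ω) (ht : t ∈ T) (hU : t ∈ U), j t = θ ⟨t, hU⟩ := by
  classical
  have E := elt hp
  obtain ⟨-, hker, hran, hmaps⟩ := hD'
  have hinj : ∀ (t t' : Ω) (ht : t ∈ T) (ht' : t' ∈ T), θ ⟨t, E.le₂ ht⟩ = θ ⟨t', E.le₂ ht'⟩ → t = t' := by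
    intro t t' ht ht' h
    have h1 : θ (⟨t, E.le₂ ht⟩⁻¹ * ⟨t', E.le₂ ht'⟩) = 1 := by
      rw [map_mul, map_inv, h, inv_mul_cancel]
    have h2 : t⁻¹ * t' ∈ Q ⊓ T := ⟨(hker _).1 h1, T.mul_mem (T.inv_mem ht) ht'⟩
    rw [hQT, Subgroup.mem_bot, inv_mul_eq_one] at h2
    exact h2
  have hsur : ∀ y, y ∈ U' → ∃ t, t ∈ T ∧ ∀ hU : t ∈ U, θ ⟨t, hU⟩ = y := by
    intro y hy
    rw [← hran] at hy
    obtain ⟨⟨u, hu⟩, rfl⟩ := hy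
    obtain ⟨a, ha, b, hb, rfl⟩ := E.dec u hu
    refine ⟨b, hb, fun hU => ?_⟩
    have h1 : (⟨a * b, hu⟩ : U) = ⟨a, E.le₁ ha⟩ * ⟨b, hU⟩ := rfl
    rw [h1, map_mul, (hker ⟨a, E.le₁ ha⟩).2 ha, one_mul]
  choose! j' hj'T hj' using hsur
  obtain ⟨j, hj⟩ : ∃ j : Ω → Ω', ∀ (t : Ω) (hU : t ∈ U), j t = θ ⟨t, hU⟩ :=
    ⟨fun t => if h : t ∈ U then θ ⟨t, h⟩ else 1, fun t hU => dif_pos hU⟩
  have hmem : ∀ x ∈ T, j x ∈ U' := by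
    intro x hx
    rw [hj x (E.le₂ hx), ← hran]
    exact ⟨_, rfl⟩
  have hr : ∀ y ∈ U', j (j' y) = y := by
    intro y hy
    rw [hj _ (E.le₂ (hj'T y hy))]
    exact hj' y hy _
  have hl : ∀ x ∈ T, j' (j x) = x := by
    intro x hx
    apply hinj _ _ (hj'T _ (hmem x hx)) hx
    rw [hj' _ (hmem x hx), hj x (E.le₂ hx)]
  have hθj : ∀ (u : Ω) (hu : u ∈ U), θ ⟨u, hu⟩ ∈ U' := by
    intro u hu
    rw [← hran]
    exact ⟨_, rfl⟩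
  -- the projection `U → T`
  have hpr : ∀ (a b : Ω) (_ : a ∈ Q) (hb : b ∈ T) (h : a * b ∈ U), j' (θ ⟨a * b, h⟩) = b := by
    intro a b ha hb h
    have h1 : (⟨a * b, h⟩ : U) = ⟨a, E.le₁ ha⟩ * ⟨b, E.le₂ hb⟩ := rfl
    rw [h1, map_mul, (hker ⟨a, E.le₁ ha⟩).2 ha, one_mul, ← hj b (E.le₂ hb), hl b hb]
  have hmul' : ∀ y ∈ U', ∀ y' ∈ U', j' (y * y') = j' y * j' y' := by
    intro y hy y' hy'
    apply hinj _ _ (hj'T _ (mul_mem hy hy')) (mul_mem (hj'T _ hy) (hj'T _ hy'))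
    rw [hj' _ (mul_mem hy hy')]
    have h1 : (⟨j' y * j' y', E.le₂ (mul_mem (hj'T _ hy) (hj'T _ hy'))⟩ : U) =
      ⟨j' y, E.le₂ (hj'T _ hy)⟩ * ⟨j' y', E.le₂ (hj'T _ hy')⟩ := rfl
    rw [h1, map_mul, hj' y hy, hj' y' hy']
  refine ⟨j, j', ⟨hmem, hj'T, hl, hr, ?_, ?_, ?_⟩, fun t _ hU => hj t hU⟩
  · intro x hx y hy
    rw [hj _ (E.le₂ (mul_mem hx hy)), hj x (E.le₂ hx), hj y (E.le₂ hy), ← map_mul]
    rfl
  · -- maps of `K`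
    intro P P' f hf hPP'
    obtain ⟨φ₂, hφ₂, he⟩ := hf
    have hPT : P ≤ T := (K.le_of_mem hφ₂).1
    have hvT := (K.le_of_mem hφ₂).2
    have hP'U : P' ≤ U' := by
      intro y hy
      obtain ⟨x, hx, rfl⟩ := (hPP' y).1 hy
      exact hmem x (hPT hx)
    have hj'P : ∀ y ∈ P', j' y ∈ P := by
      intro y hy
      obtain ⟨x, hx, rfl⟩ := (hPP' y).1 hy
      rw [hl x (hPT hx)]
      exact hx
    let φ' : P' →* Ω' := MonoidHom.mk' (fun y => θ ⟨φ₂ ⟨j' y, hj'P y y.2⟩, E.le₂ (hvT _)⟩) (by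
      intro y y'
      rw [← map_mul]
      congr 1
      apply Subtype.ext
      change φ₂ ⟨j' ((y : Ω') * y'), _⟩ = φ₂ ⟨j' y, _⟩ * φ₂ ⟨j' y', _⟩
      rw [← map_mul]
      congr 1
      apply Subtype.ext
      exact hmul' _ (hP'U y.2) _ (hP'U y'.2))
    have hpm : ∀ u ∈ preimageAlong θ P', ∃ hu : u ∈ U, θ ⟨u, hu⟩ ∈ P' := fun u hu => H759.mem_preimageAlong.1 hu
    -- the decomposition of the elements of the preimage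
    have hdec : ∀ u : ↥(preimageAlong θ P'), ∃ (a b : Ω) (_ : a ∈ Q) (hb : b ∈ P), (u : Ω) = a * b := by
      intro u
      obtain ⟨hu, hu'⟩ := hpm u u.2
      obtain ⟨a, ha, b, hb, hab⟩ := E.dec u hu
      refine ⟨a, b, ha, ?_, hab.symm⟩
      have h1 : j' (θ ⟨a * b, hab ▸ hu⟩) = b := hpr a b ha hb _
      have h2 : θ ⟨a * b, hab ▸ hu⟩ = θ ⟨u, hu⟩ := by
        congr 1
        exact Subtype.ext hab
      rw [← h1, h2]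
      exact hj'P _ hu'
    have huniq : ∀ a a' b b' : Ω, a ∈ Q → a' ∈ Q → b ∈ T → b' ∈ T → a * b = a' * b' → a = a' ∧ b = b' := by
      intro a a' b b' ha ha' hb hb' h
      have h1 : a'⁻¹ * a = b' * b⁻¹ := by
        rw [inv_mul_eq_iff_eq_mul, ← mul_assoc, ← h, mul_inv_cancel_right]
      have h2 : a'⁻¹ * a ∈ Q ⊓ T := ⟨Q.mul_mem (Q.inv_mem ha') ha, h1 ▸ T.mul_mem hb' (T.inv_mem hb)⟩
      rw [hQT, Subgroup.mem_bot, inv_mul_eq_one] at h2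
      refine ⟨h2.symm, ?_⟩
      rw [← h2] at h
      exact (mul_left_cancel h).symm ▸ (by rfl)
    choose A B hA hB hAB using hdec
    let φ : ↥(preimageAlong θ P') →* Ω := MonoidHom.mk' (fun u => A u * φ₂ ⟨B u, hB u⟩) (by
      intro u v
      have h1 : A (u * v) * B (u * v) = (A u * A v) * (B u * B v) := by
        rw [← hAB]
        change (u : Ω) * v = _
        rw [hAB u, hAB v]
        calc A u * B u * (A v * B v) = A u * (B u * A v) * B v := by group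
          _ = A u * (A v * B u) * B v := by rw [E.comm _ (hA v) _ (hPT (hB u))]
          _ = _ := by group
      obtain ⟨h2, h3⟩ := huniq _ _ _ _ (hA _) (mul_mem (hA u) (hA v)) (hPT (hB _))
        (mul_mem (hPT (hB u)) (hPT (hB v))) h1
      have h4 : φ₂ ⟨B (u * v), hB (u * v)⟩ = φ₂ ⟨B u, hB u⟩ * φ₂ ⟨B v, hB v⟩ := by
        rw [← map_mul]
        congr 1
        exact Subtype.ext h3
      rw [h4, h2]
      calc A u * A v * (φ₂ ⟨B u, hB u⟩ * φ₂ ⟨B v, hB v⟩) = A u * (A v * φ₂ ⟨B u, hB u⟩) * φ₂ ⟨B v, hB v⟩ := by group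
        _ = A u * (φ₂ ⟨B u, hB u⟩ * A v) * φ₂ ⟨B v, hB v⟩ := by rw [E.comm _ (hA v) _ (hvT _)]
        _ = _ := by group)
    have hφv : ∀ u, φ u = A u * φ₂ ⟨B u, hB u⟩ := fun u => rfl
    have hφ : φ ∈ D.Hom (preimageAlong θ P') := by
      apply E.up P φ₂ hφ₂ _ φ H759.preimageAlong_le
      intro a ha b hb h
      obtain ⟨h2, h3⟩ := huniq _ _ _ _ (hA ⟨a * b, h⟩) ha (hPT (hB _)) hb (hAB ⟨a * b, h⟩).symm
      refine ⟨h3 ▸ hB ⟨a * b, h⟩, ?_⟩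
      rw [hφv, h2]
      congr 2
      exact Subtype.ext h3
    refine ⟨φ', (hmaps P' φ').2 ⟨hP'U, φ, hφ, H759.preimageAlong_le, ?_, fun x => (hpm x x.2).2, ?_⟩, ?_⟩
    · intro u
      rw [hφv]
      exact mul_mem (E.le₁ (hA u)) (E.le₂ (hvT _))
    · intro u
      obtain ⟨hu, hu'⟩ := hpm u u.2
      have h1 : (⟨φ u, mul_mem (E.le₁ (hA u)) (E.le₂ (hvT _))⟩ : U) =
        ⟨A u, E.le₁ (hA u)⟩ * ⟨φ₂ ⟨B u, hB u⟩, E.le₂ (hvT _)⟩ := rfl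
      rw [h1, map_mul, (hker ⟨A u, E.le₁ (hA u)⟩).2 (hA u), one_mul]
      change θ ⟨φ₂ ⟨j' (θ ⟨u, _⟩), _⟩, _⟩ = _
      congr 1
      apply Subtype.ext
      change φ₂ _ = φ₂ _
      congr 1
      apply Subtype.ext
      change j' (θ ⟨(u : Ω), hu⟩) = B u
      have h2 : A u * B u ∈ U := by rw [← hAB]; exact hu
      have h3 : (⟨(u : Ω), hu⟩ : U) = ⟨A u * B u, h2⟩ := Subtype.ext (hAB u)
      rw [h3]
      exact hpr _ _ (hA u) (hPT (hB u)) h2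
    · intro y hy
      change θ ⟨φ₂ ⟨j' y, _⟩, _⟩ = j (f (j' y))
      rw [← he (j' y) (hj'P y hy), hj _ (E.le₂ (hvT _))]
  · -- maps of `D'`
    intro P' P f hf hPP'
    obtain ⟨φ', hφ', he⟩ := hf
    obtain ⟨hP'U, φ, hφ, h1, h2, h3, h4⟩ := (hmaps P' φ').1 hφ'
    obtain ⟨P₂, φ₂, hφ₂, g, hg, hd⟩ := E.down _ φ hφ
    have hPT : P ≤ T := by
      intro x hx
      obtain ⟨y, hy, rfl⟩ := (hPP' x).1 hx
      exact hj'T y (hP'U hy)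
    have hPpre : ∀ x ∈ P, x ∈ preimageAlong θ P' := by
      intro x hx
      obtain ⟨y, hy, rfl⟩ := (hPP' x).1 hx
      refine H759.mem_preimageAlong.2 ⟨E.le₂ (hj'T y (hP'U hy)), ?_⟩
      rw [hj' y (hP'U hy)]
      exact hy
    have hPv : ∀ (x : Ω) (hx : x ∈ P), ∃ hb : x ∈ P₂, φ ⟨x, hPpre x hx⟩ = φ₂ ⟨x, hb⟩ := by
      intro x hx
      obtain ⟨hb, h5⟩ := hd 1 (one_mem _) x (hPT hx) (by rw [one_mul]; exact hPpre x hx)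
      refine ⟨hb, ?_⟩
      have h6 : φ ⟨x, hPpre x hx⟩ = φ ⟨1 * x, by rw [one_mul]; exact hPpre x hx⟩ := by
        congr 1
        exact Subtype.ext (one_mul x).symm
      rw [h6, h5, mul_one, mul_inv_cancel, one_mul]
    have hP₂ : P ≤ P₂ := fun x hx => (hPv x hx).1
    refine ⟨φ₂.comp (Subgroup.inclusion hP₂), H802.restrict_mem hφ₂ hP₂, fun x hx => ?_⟩
    change φ₂ ⟨x, hP₂ hx⟩ = j' (f (j x))
    have hvT : φ₂ ⟨x, hP₂ hx⟩ ∈ T := (K.le_of_mem hφ₂).2 _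
    rw [← hl _ hvT]
    congr 1
    have h5 : θ ⟨x, E.le₂ (hPT hx)⟩ ∈ P' := h3 ⟨x, hPpre x hx⟩
    rw [hj x (E.le₂ (hPT hx)), ← he _ h5]
    refine Eq.trans ?_ (h4 ⟨x, hPpre x hx⟩).symm
    rw [hj _ (E.le₂ hvT)]
    congr 1
    exact Subtype.ext (hPv x hx).2.symm

end Cfsg.Agent.H49.FIsoFactor
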